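import Cfsg.Agent.J1Order.Arith
import Mathlib.Algebra.BigOperators.Ring.Finset
import Mathlib.Algebra.Order.BigOperators.Group.Finset
import Mathlib.Data.Fintype.Card

/-!
# The multiplicities of the four induced generalized characters

`u a b q` are the multiplicities, `d` the degrees and `u + 2a + 2b + 4q` the values at the
involution.  The only solution of the norm and degree conditions gives the order `175560`.
-/

set_option autoImplicit false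

namespace CfsgLib.J1Order

open Finset

variable {ι : Type*} [Fintype ι] [DecidableEq ι]

/-- The conditions on multiplicities, degrees and character values. -/
structure MultData (ι : Type*) [Fintype ι] [DecidableEq ι] (N : ℕ) where
  o : ι
  u : ι → ℤ
  a : ι → ℤ
  b : ι → ℤ
  q : ι → ℤ
  d : ι → ℤ
  x : ι → ℚ
  uu : ∑ i, u i * u i = 8
  ua : ∑ i, u i * a i = 4
  ub : ∑ i, u i * b i = 4
  uq : ∑ i, u i * q i = 0
  aa : ∑ i, a i * a i = 4
  ab : ∑ i, a i * b i = 2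
  aq : ∑ i, a i * q i = 0
  bb : ∑ i, b i * b i = 4
  bq : ∑ i, b i * q i = 0
  qq : ∑ i, q i * q i = 2
  uo : u o = 1
  ao : a o = 0
  bo : b o = 0
  qo : q o = 0
  d_o : d o = 1
  d_two : ∀ i, i ≠ o → 2 ≤ d i
  ud : ∑ i, u i * d i = 0
  ad : ∑ i, a i * d i = 0
  bd : ∑ i, b i * d i = 0
  qd : ∑ i, q i * d i = 0
  eq_u : (N : ℚ) * ∑ i, (u i : ℚ) * (((u i + 2 * a i + 2 * b i + 4 * q i : ℤ) : ℚ) ^ 2 / d i) = 201600
  eq_a : (N : ℚ) * ∑ i, (a i : ℚ) * (((u i + 2 * a i + 2 * b i + 4 * q i : ℤ) : ℚ) ^ 2 / d i) = 57600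
  eq_b : (N : ℚ) * ∑ i, (b i : ℚ) * (((u i + 2 * a i + 2 * b i + 4 * q i : ℤ) : ℚ) ^ 2 / d i) = 57600
  eq_q : (N : ℚ) * ∑ i, (q i : ℚ) * (((u i + 2 * a i + 2 * b i + 4 * q i : ℤ) : ℚ) ^ 2 / d i) = 0
  cong : ∀ i, 8 ∣ d i - (u i + 2 * a i + 2 * b i + 4 * q i)
  pos : ∀ i, 0 ≤ d i + 7 * (u i + 2 * a i + 2 * b i + 4 * q i)
  pos' : ∀ i, 0 ≤ d i - (u i + 2 * a i + 2 * b i + 4 * q i)
  hN : N % 16 = 8
  sq : ∀ s : Finset ι, ∑ i ∈ s, d i * d i ≤ N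
  dvd : ∀ i, d i ∣ (N : ℤ)
  xo : x o = 1
  wx : ∑ i, ((u i - a i - b i : ℤ) : ℚ) * x i = 0
  hx : ∀ i, (d i = 15 → u i + 2 * a i + 2 * b i + 4 * q i = -1 → u i - a i - b i + q i = -1 → x i = 3) ∧
    (d i = 35 → u i + 2 * a i + 2 * b i + 4 * q i = -5 → u i - a i - b i + q i = 1 → x i = -1) ∧
    (d i = 21 → u i + 2 * a i + 2 * b i + 4 * q i = 5 → u i - a i - b i + q i = -1 → x i = 3)

theorem abs_le_one_of_norm_four {f d : ι → ℤ} (hd : ∀ i, 0 < d i) (h : ∑ i, f i * f i = 4)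
    (h0 : ∑ i, f i * d i = 0) (i : ι) : f i = 0 ∨ f i = 1 ∨ f i = -1 := by
  by_contra hc
  have h2 : 4 ≤ f i * f i := by
    rcases (by omega : 2 ≤ f i ∨ f i ≤ -2) with e | e <;> nlinarith
  have h3 : ∀ j, j ≠ i → f j = 0 := by
    intro j hj
    have h4 : ∑ k ∈ ({i, j} : Finset ι), f k * f k ≤ ∑ k, f k * f k :=
      Finset.sum_le_univ_sum_of_nonneg fun k => mul_self_nonneg _
    rw [Finset.sum_pair hj.symm, h] at h4
    exact mul_self_eq_zero.1 (le_antisymm (by linarith) (mul_self_nonneg _))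
  rw [Finset.sum_eq_single i (fun j _ hj => by rw [h3 j hj, zero_mul])
    (fun hi => absurd (Finset.mem_univ i) hi)] at h0
  rcases mul_eq_zero.1 h0 with e | e
  · omega
  · exact (hd i).ne' e

omit [Fintype ι] in
theorem sum_four [Fintype ι] {R : Type*} [CommRing R] {f : ι → ℤ} {A B C D : ι}
    (hne : A ≠ B ∧ A ≠ C ∧ A ≠ D ∧ B ≠ C ∧ B ≠ D ∧ C ≠ D)
    (h : ∀ i, f i ≠ 0 → i = A ∨ i = B ∨ i = C ∨ i = D) (k : ι → R) :
    ∑ i, (f i : R) * k i =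
      (f A : R) * k A + (f B : R) * k B + (f C : R) * k C + (f D : R) * k D := by
  rw [← Finset.sum_subset (Finset.subset_univ ({A, B, C, D} : Finset ι)) fun i _ hi => ?_]
  · rw [Finset.sum_insert (by simp [hne.1, hne.2.1, hne.2.2.1]),
      Finset.sum_insert (by simp [hne.2.2.2.1, hne.2.2.2.2.1]), Finset.sum_pair hne.2.2.2.2.2]
    ring
  · have : f i = 0 := by
      by_contra hc
      exact hi (by simpa using h i hc)
    rw [this, Int.cast_zero, zero_mul]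

/-- The possible patterns of the six products. -/
theorem six_signs : ∀ x y p p' r r' : ℤ, (x = 0 ∨ x = 1 ∨ x = -1) → (y = 0 ∨ y = 1 ∨ y = -1) →
    (p = 0 ∨ p = 1 ∨ p = -1) → (p' = 0 ∨ p' = 1 ∨ p' = -1) → (r = 0 ∨ r = 1 ∨ r = -1) →
    (r' = 0 ∨ r' = 1 ∨ r' = -1) → x + y + p + p' = -2 → x + y + r + r' = -2 →
    x * x + y * y + p * p + p' * p' + r * r + r' * r' ≤ 3 →
    (x = -1 ∧ y = -1 ∧ p = 0 ∧ p' = 0 ∧ r = 0 ∧ r' = 0) ∨
      (((x = -1 ∧ y = 0) ∨ (x = 0 ∧ y = -1)) ∧ ((p = -1 ∧ p' = 0) ∨ (p = 0 ∧ p' = -1)) ∧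
        ((r = -1 ∧ r' = 0) ∨ (r = 0 ∧ r' = -1))) := by
  intro x y p p' r r' hx hy hp hp' hr hr' h1 h2 h3
  rcases hx with rfl | rfl | rfl <;> rcases hy with rfl | rfl | rfl <;>
    rcases hp with rfl | rfl | rfl <;> rcases hp' with rfl | rfl | rfl <;>
    norm_num at h1 <;>
    rcases hr with rfl | rfl | rfl <;> rcases hr' with rfl | rfl | rfl <;>
    norm_num at h2 <;> norm_num at h3 <;> norm_num

namespace MultData

variable {N : ℕ} (D : MultData ι N)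

/-- The value at the involution. -/
def z (i : ι) : ℤ := D.u i + 2 * D.a i + 2 * D.b i + 4 * D.q i

/-- The combination of norm four. -/
def w (i : ι) : ℤ := D.u i - D.a i - D.b i

theorem d_pos (i : ι) : 0 < D.d i := by
  by_cases h : i = D.o
  · rw [h, D.d_o]; norm_num
  · linarith [D.d_two i h]

theorem q_disjoint (i : ι) (hi : D.q i ≠ 0) : D.u i = 0 ∧ D.a i = 0 ∧ D.b i = 0 := by
  obtain ⟨S, hS, hS'⟩ : ∃ S : Finset ι, S = Finset.univ.filter (fun i => D.q i ≠ 0) ∧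
      ∀ i ∈ S, D.q i = 1 ∨ D.q i = -1 := by
    refine ⟨_, rfl, fun j hj => ?_⟩
    have h1 : D.q j * D.q j ≤ ∑ k, D.q k * D.q k :=
      Finset.single_le_sum (f := fun k => D.q k * D.q k) (fun k _ => mul_self_nonneg _)
        (Finset.mem_univ j)
    rw [D.qq] at h1
    have h2 : -1 ≤ D.q j ∧ D.q j ≤ 1 := by constructor <;> nlinarith
    have h3 : D.q j ≠ 0 := (Finset.mem_filter.1 hj).2
    omega
  have hcard : S.card = 2 := by
    have h : ∑ k, D.q k * D.q k = ∑ k ∈ S, (1 : ℤ) := by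
      rw [← Finset.sum_subset (Finset.subset_univ S) fun k _ hk => ?_]
      · exact Finset.sum_congr rfl fun k hk => by rcases hS' k hk with e | e <;> simp [e]
      · have : D.q k = 0 := by by_contra hc; exact hk (by simp [hS, hc])
        rw [this, zero_mul]
    rw [D.qq, Finset.sum_const, nsmul_eq_mul, mul_one] at h
    exact_mod_cast h.symm
  obtain ⟨p, r, hpr, hE⟩ := Finset.card_eq_two.1 hcard
  have hsum : ∀ (R : Type) [CommRing R] (k : ι → R),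
      ∑ j, (D.q j : R) * k j = (D.q p : R) * k p + (D.q r : R) * k r := by
    intro R _ k
    rw [← Finset.sum_subset (Finset.subset_univ S) fun j _ hj => ?_, hE, Finset.sum_pair hpr]
    have : D.q j = 0 := by by_contra hc; exact hj (by simp [hS, hc])
    rw [this, Int.cast_zero, zero_mul]
  have sZ : ∀ k : ι → ℤ, ∑ j, D.q j * k j = D.q p * k p + D.q r * k r := fun k => by
    simpa using hsum ℤ k
  have hp := hS' p (by rw [hE]; simp)
  have hr := hS' r (by rw [hE]; simp)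
  have dp := D.d_pos p
  have dr := D.d_pos r
  have hdeg := D.qd
  rw [sZ] at hdeg
  have hopp : D.q r = -D.q p ∧ D.d r = D.d p := by
    rcases hp with e | e <;> rcases hr with e' | e' <;> rw [e, e'] at hdeg ⊢ <;> constructor <;>
      first | rfl | linarith
  have huq : D.u r = D.u p := by
    have h := D.uq
    rw [Finset.sum_congr rfl (g := fun j => D.q j * D.u j) (fun j _ => mul_comm _ _), sZ, hopp.1] at h
    rcases hp with e | e <;> rw [e] at h <;> linarith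
  have haq : D.a r = D.a p := by
    have h := D.aq
    rw [Finset.sum_congr rfl (g := fun j => D.q j * D.a j) (fun j _ => mul_comm _ _), sZ, hopp.1] at h
    rcases hp with e | e <;> rw [e] at h <;> linarith
  have hbq : D.b r = D.b p := by
    have h := D.bq
    rw [Finset.sum_congr rfl (g := fun j => D.q j * D.b j) (fun j _ => mul_comm _ _), sZ, hopp.1] at h
    rcases hp with e | e <;> rw [e] at h <;> linarith
  have hX : D.u p + 2 * D.a p + 2 * D.b p = 0 := by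
    have h := D.eq_q
    rw [hsum, hopp.1, hopp.2, huq, haq, hbq] at h
    have hN : (N : ℚ) ≠ 0 := by
      have := D.hN; exact_mod_cast (by omega : N ≠ 0)
    have h2 := (mul_eq_zero.1 h).resolve_left hN
    have dQ : (D.d p : ℚ) ≠ 0 := Int.cast_ne_zero.2 dp.ne'
    field_simp at h2
    rcases hp with e | e <;> rw [e] at h2 <;> push_cast at h2 <;>
      exact_mod_cast (by nlinarith : ((D.u p : ℚ) + 2 * D.a p + 2 * D.b p) = 0)
  have hpo : D.o ≠ p ∧ D.o ≠ r := by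
    constructor <;> intro e
    · rw [← e, D.qo] at hp; omega
    · rw [← e, D.qo] at hr; omega
  have hu0 : D.u p = 0 := by
    have h3 : ∑ k ∈ ({D.o, p, r} : Finset ι), D.u k * D.u k ≤ ∑ k, D.u k * D.u k :=
      Finset.sum_le_univ_sum_of_nonneg fun k => mul_self_nonneg _
    rw [Finset.sum_insert (by simp [hpo.1, hpo.2]), Finset.sum_pair hpr, D.uu, D.uo, huq] at h3
    obtain ⟨k, hk⟩ : ∃ k, D.u p = 2 * k := ⟨-(D.a p + D.b p), by linarith⟩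
    rw [hk] at h3 ⊢
    have : k = 0 := by nlinarith
    omega
  have ha0 : D.a p = 0 := by
    have h : ∑ k, (D.a k - D.b k) * (D.a k - D.b k) = 4 := by
      simp only [sub_mul, mul_sub, Finset.sum_sub_distrib]
      rw [Finset.sum_congr rfl (g := fun k => D.a k * D.b k) fun k _ => mul_comm (D.b k) (D.a k),
        D.aa, D.ab, D.bb]
      norm_num
    have h3 : ∑ k ∈ ({p, r} : Finset ι), (D.a k - D.b k) * (D.a k - D.b k) ≤
        ∑ k, (D.a k - D.b k) * (D.a k - D.b k) :=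
      Finset.sum_le_univ_sum_of_nonneg fun k => mul_self_nonneg _
    rw [Finset.sum_pair hpr, h, haq, hbq, show D.b p = -D.a p by linarith] at h3
    nlinarith
  have hb0 : D.b p = 0 := by linarith
  have hi' : i ∈ S := by simp [hS, hi]
  rw [hE] at hi'
  simp only [Finset.mem_insert, Finset.mem_singleton] at hi'
  rcases hi' with rfl | rfl
  · exact ⟨hu0, ha0, hb0⟩
  · exact ⟨huq.trans hu0, haq.trans ha0, hbq.trans hb0⟩

theorem z_of_ne {i : ι} (h : D.u i ≠ 0 ∨ D.a i ≠ 0 ∨ D.b i ≠ 0) :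
    D.q i = 0 ∧ D.z i = D.w i + 3 * D.a i + 3 * D.b i := by
  have hq : D.q i = 0 := by
    by_contra hc
    obtain ⟨a, b, c⟩ := D.q_disjoint i hc
    omega
  exact ⟨hq, by simp only [z, w, hq]; ring⟩

theorem ww : ∑ i, D.w i * D.w i = 4 := by
  simp only [w, sub_mul, mul_sub, Finset.sum_sub_distrib]
  rw [Finset.sum_congr rfl (g := fun k => D.u k * D.a k) fun k _ => mul_comm (D.a k) (D.u k),
    Finset.sum_congr rfl (g := fun k => D.u k * D.b k) fun k _ => mul_comm (D.b k) (D.u k),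
    Finset.sum_congr rfl (g := fun k => D.a k * D.b k) fun k _ => mul_comm (D.b k) (D.a k),
    D.uu, D.ua, D.ub, D.aa, D.ab, D.bb]
  norm_num

theorem wd : ∑ i, D.w i * D.d i = 0 := by
  simp only [w, sub_mul, Finset.sum_sub_distrib]
  rw [D.ud, D.ad, D.bd]
  norm_num

theorem wa : ∑ i, D.w i * D.a i = -2 := by
  simp only [w, sub_mul, Finset.sum_sub_distrib]
  rw [Finset.sum_congr rfl (g := fun k => D.a k * D.b k) fun k _ => mul_comm (D.b k) (D.a k),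
    D.ua, D.aa, D.ab]
  norm_num

theorem wb : ∑ i, D.w i * D.b i = -2 := by
  simp only [w, sub_mul, Finset.sum_sub_distrib]
  rw [D.ub, D.ab, D.bb]
  norm_num

theorem wo : D.w D.o = 1 := by simp [w, D.uo, D.ao, D.bo]

theorem eq_w : (N : ℚ) * ∑ i, (D.w i : ℚ) * ((D.z i : ℚ) ^ 2 / D.d i) = 86400 := by
  have h1 := D.eq_u
  have h2 := D.eq_a
  have h3 := D.eq_b
  simp only [w, Int.cast_sub, sub_mul, Finset.sum_sub_distrib]
  simp only [z] at *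
  linarith

theorem w01 (i : ι) : D.w i = 0 ∨ D.w i = 1 ∨ D.w i = -1 :=
  abs_le_one_of_norm_four D.d_pos D.ww D.wd i

theorem a01 (i : ι) : D.a i = 0 ∨ D.a i = 1 ∨ D.a i = -1 :=
  abs_le_one_of_norm_four D.d_pos D.aa D.ad i

theorem b01 (i : ι) : D.b i = 0 ∨ D.b i = 1 ∨ D.b i = -1 :=
  abs_le_one_of_norm_four D.d_pos D.bb D.bd i

theorem ab_same (i : ι) : D.a i = 0 ∨ D.b i = 0 ∨ D.a i = D.b i := by
  have h : ∑ k, (D.a k - D.b k) * (D.a k - D.b k) = 4 := by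
    simp only [sub_mul, mul_sub, Finset.sum_sub_distrib]
    rw [Finset.sum_congr rfl (g := fun k => D.a k * D.b k) fun k _ => mul_comm (D.b k) (D.a k),
      D.aa, D.ab, D.bb]
    norm_num
  have h0 : ∑ k, (D.a k - D.b k) * D.d k = 0 := by
    simp only [sub_mul, Finset.sum_sub_distrib, D.ad, D.bd]
    norm_num
  have := abs_le_one_of_norm_four D.d_pos h h0 i
  have := D.a01 i
  have := D.b01 i
  omega

omit [DecidableEq ι] in
/-- The signed degree at a constituent where the value at the involution is `σ c`. -/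
theorem signed {σ c d z : ℤ} (hσ : σ = 1 ∨ σ = -1) (hz : z = c * σ) (h8 : 8 ∣ d - z)
    (hp : 0 ≤ d + 7 * z) (hp' : 0 ≤ d - z) (hd : 0 < d) :
    σ * d ≠ 0 ∧ (σ * d) % 8 = c % 8 ∧ (c ≤ σ * d ∨ σ * d ≤ -(7 * c)) := by
  subst hz
  rcases hσ with rfl | rfl <;> refine ⟨by omega, by omega, by omega⟩

theorem term {σ d z : ℤ} (hσ : σ = 1 ∨ σ = -1) :
    (σ : ℚ) * ((z : ℚ) ^ 2 / d) = ((z * z : ℤ) : ℚ) / ((σ * d : ℤ) : ℚ) := by
  rcases hσ with rfl | rfl <;> push_cast <;> ring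

omit [DecidableEq ι] in
theorem term_neg {σ d z : ℤ} (hσ : σ = 1 ∨ σ = -1) :
    ((-σ : ℤ) : ℚ) * ((z : ℚ) ^ 2 / d) = -(((z * z : ℤ) : ℚ) / ((σ * d : ℤ) : ℚ)) := by
  rw [← term hσ]
  push_cast
  ring

theorem z_o : D.z D.o = 1 := by simp [z, D.uo, D.ao, D.bo, D.qo]

/-- The second configuration is impossible. -/
theorem case_ten {B A Q P S R : ι} (hB : D.a B ≠ 0 ∧ D.b B = D.a B ∧ D.w B = -D.a B)
    (hA : D.a A ≠ 0 ∧ D.b A = D.a A ∧ D.w A = 0) (hQ : D.a Q ≠ 0 ∧ D.b Q = 0 ∧ D.w Q = -D.a Q)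
    (hP : D.a P ≠ 0 ∧ D.b P = 0 ∧ D.w P = 0) (hS : D.a S = 0 ∧ D.b S ≠ 0 ∧ D.w S = -D.b S)
    (hR : D.a R = 0 ∧ D.b R ≠ 0 ∧ D.w R = 0)
    (sa : ∀ i, D.a i ≠ 0 → i = B ∨ i = A ∨ i = Q ∨ i = P)
    (sb : ∀ i, D.b i ≠ 0 → i = B ∨ i = A ∨ i = S ∨ i = R)
    (hBA : B ≠ A) (hQP : Q ≠ P) (hSR : S ≠ R) : False := by
  have ne1 : B ≠ Q ∧ B ≠ P ∧ A ≠ Q ∧ A ≠ P ∧ B ≠ S ∧ B ≠ R ∧ A ≠ S ∧ A ≠ R ∧ Q ≠ S ∧
      D.o ≠ B ∧ D.o ≠ Q ∧ D.o ≠ S := by
    refine ⟨?_, ?_, ?_, ?_, ?_, ?_, ?_, ?_, ?_, ?_, ?_, ?_⟩ <;> intro e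
    · have := hQ.2.1; rw [← e, hB.2.1] at this; exact hB.1 this
    · have := hP.2.1; rw [← e, hB.2.1] at this; exact hB.1 this
    · have := hQ.2.1; rw [← e, hA.2.1] at this; exact hA.1 this
    · have := hP.2.1; rw [← e, hA.2.1] at this; exact hA.1 this
    · exact hB.1 (e ▸ hS.1)
    · exact hB.1 (e ▸ hR.1)
    · exact hA.1 (e ▸ hS.1)
    · exact hA.1 (e ▸ hR.1)
    · exact hQ.1 (e ▸ hS.1)
    · exact hB.1 (e ▸ D.ao)
    · exact hQ.1 (e ▸ D.ao)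
    · exact hS.2.1 (e ▸ D.bo)
  obtain ⟨nBQ, nBP, nAQ, nAP, nBS, nBR, nAS, nAR, nQS, noB, noQ, noS⟩ := ne1
  have hsa := fun (T : Type) [CommRing T] (k : ι → T) =>
    sum_four (R := T) ⟨hBA, nBQ, nBP, nAQ, nAP, hQP⟩ sa k
  have hsb := fun (T : Type) [CommRing T] (k : ι → T) =>
    sum_four (R := T) ⟨hBA, nBS, nBR, nAS, nAR, hSR⟩ sb k
  have sgnA : ∀ i, D.a i ≠ 0 → D.a i = 1 ∨ D.a i = -1 := fun i h => (D.a01 i).resolve_left h
  have sgnB : ∀ i, D.b i ≠ 0 → D.b i = 1 ∨ D.b i = -1 := fun i h => (D.b01 i).resolve_left h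
  have sw : ∀ i, D.w i ≠ 0 → i = D.o ∨ i = B ∨ i = Q ∨ i = S := by
    intro i hi
    by_contra hc
    push Not at hc
    have h1 : ∑ k ∈ ({i, D.o, B, Q, S} : Finset ι), D.w k * D.w k ≤ ∑ k, D.w k * D.w k :=
      Finset.sum_le_univ_sum_of_nonneg fun k => mul_self_nonneg _
    rw [Finset.sum_insert (by simp [hc.1, hc.2.1, hc.2.2.1, hc.2.2.2]),
      Finset.sum_insert (by simp [noB, noQ, noS]), Finset.sum_insert (by simp [nBQ, nBS]),
      Finset.sum_pair nQS, D.ww, D.wo, hB.2.2, hQ.2.2, hS.2.2] at h1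
    have : 0 < D.w i * D.w i := mul_self_pos.2 hi
    rcases sgnA B hB.1 with e | e <;> rcases sgnA Q hQ.1 with e' | e' <;>
      rcases sgnB S hS.2.1 with e'' | e'' <;> rw [e, e', e''] at h1 <;> omega
  have hsw := fun (T : Type) [CommRing T] (k : ι → T) =>
    sum_four (R := T) ⟨noB, noQ, noS, nBQ, nBS, nQS⟩ sw k
  have zB : D.z B = 5 * D.a B := by rw [(D.z_of_ne (Or.inr (Or.inl hB.1))).2, hB.2.1, hB.2.2]; ring
  have zA : D.z A = 6 * D.a A := by rw [(D.z_of_ne (Or.inr (Or.inl hA.1))).2, hA.2.1, hA.2.2]; ring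
  have zQ : D.z Q = 2 * D.a Q := by rw [(D.z_of_ne (Or.inr (Or.inl hQ.1))).2, hQ.2.1, hQ.2.2]; ring
  have zP : D.z P = 3 * D.a P := by rw [(D.z_of_ne (Or.inr (Or.inl hP.1))).2, hP.2.1, hP.2.2]; ring
  have zS : D.z S = 2 * D.b S := by rw [(D.z_of_ne (Or.inr (Or.inr hS.2.1))).2, hS.1, hS.2.2]; ring
  have zR : D.z R = 3 * D.b R := by rw [(D.z_of_ne (Or.inr (Or.inr hR.2.1))).2, hR.1, hR.2.2]; ring
  have sq1 : ∀ {σ : ℤ}, σ = 1 ∨ σ = -1 → σ * σ = 1 := fun h => by rcases h with rfl | rfl <;> rfl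
  have zzB : D.z B * D.z B = 25 := by rw [zB]; linear_combination 25 * sq1 (sgnA B hB.1)
  have zzA : D.z A * D.z A = 36 := by rw [zA]; linear_combination 36 * sq1 (sgnA A hA.1)
  have zzQ : D.z Q * D.z Q = 4 := by rw [zQ]; linear_combination 4 * sq1 (sgnA Q hQ.1)
  have zzP : D.z P * D.z P = 9 := by rw [zP]; linear_combination 9 * sq1 (sgnA P hP.1)
  have zzS : D.z S * D.z S = 4 := by rw [zS]; linear_combination 4 * sq1 (sgnB S hS.2.1)
  have zzR : D.z R * D.z R = 9 := by rw [zR]; linear_combination 9 * sq1 (sgnB R hR.2.1)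
  obtain ⟨B0, B8, Bp⟩ := signed (sgnA B hB.1) zB (D.cong B) (D.pos B) (D.pos' B) (D.d_pos B)
  obtain ⟨Q0, Q8, Qp⟩ := signed (sgnA Q hQ.1) zQ (D.cong Q) (D.pos Q) (D.pos' Q) (D.d_pos Q)
  obtain ⟨S0, S8, Sp⟩ := signed (sgnB S hS.2.1) zS (D.cong S) (D.pos S) (D.pos' S) (D.d_pos S)
  have hdA := D.ad
  have hdB := D.bd
  have hdW := D.wd
  have h1 := hsa ℤ D.d
  have h2 := hsb ℤ D.d
  have h3 := hsw ℤ D.d
  simp only [Int.cast_id] at h1 h2 h3
  rw [hdA] at h1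
  rw [hdB, hB.2.1, hA.2.1] at h2
  rw [hdW, D.wo, D.d_o, hB.2.2, hQ.2.2, hS.2.2] at h3
  have e1 := hsa ℚ (fun i => (D.z i : ℚ) ^ 2 / D.d i)
  have e2 := hsb ℚ (fun i => (D.z i : ℚ) ^ 2 / D.d i)
  have e3 := hsw ℚ (fun i => (D.z i : ℚ) ^ 2 / D.d i)
  rw [term (sgnA B hB.1), term (sgnA A hA.1), term (sgnA Q hQ.1), term (sgnA P hP.1),
    zzB, zzA, zzQ, zzP] at e1
  rw [hB.2.1, hA.2.1, term (sgnA B hB.1), term (sgnA A hA.1), term (sgnB S hS.2.1),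
    term (sgnB R hR.2.1), zzB, zzA, zzS, zzR] at e2
  rw [hB.2.2, hQ.2.2, hS.2.2, term_neg (sgnA B hB.1), term_neg (sgnA Q hQ.1),
    term_neg (sgnB S hS.2.1), zzB, zzQ, zzS, D.wo, D.z_o, D.d_o] at e3
  have ea := D.eq_a
  have eb := D.eq_b
  have ew := D.eq_w
  simp only [z] at e1 e2 e3 ew
  rw [e1] at ea
  rw [e2] at eb
  rw [e3] at ew
  push_cast at ea eb ew
  have hsq : (D.a B * D.d B) * (D.a B * D.d B) + (D.a Q * D.d Q) * (D.a Q * D.d Q) +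
      (D.b S * D.d S) * (D.b S * D.d S) < (N : ℤ) := by
    have h := D.sq {D.o, B, Q, S}
    rw [Finset.sum_insert (by simp [noB, noQ, noS]), Finset.sum_insert (by simp [nBQ, nBS]),
      Finset.sum_pair nQS, D.d_o] at h
    have key : ∀ {σ d : ℤ}, σ = 1 ∨ σ = -1 → σ * d * (σ * d) = d * d := fun h => by
      rcases h with rfl | rfl <;> ring
    rw [key (sgnA B hB.1), key (sgnA Q hQ.1), key (sgnB S hS.2.1)]
    linarith
  have hdvd : ∀ {σ : ℤ} (i : ι), σ = 1 ∨ σ = -1 → σ * D.d i ∣ (N : ℤ) := fun i h => by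
    rcases h with rfl | rfl
    · rw [one_mul]; exact D.dvd i
    · rw [neg_one_mul]; exact neg_dvd.2 (D.dvd i)
  refine arith10 (A := D.a A * D.d A) (B := D.a B * D.d B) (P := D.a P * D.d P)
    (Q := D.a Q * D.d Q) (R := D.b R * D.d R) (S := D.b S * D.d S) D.hN (B8.trans (by norm_num))
    (Q8.trans (by norm_num)) (S8.trans (by norm_num)) ?_ ?_ ?_ (by omega) (by omega) (by omega)
    (by linarith) (by linarith) (by linarith) ?_ ?_ ?_
    (hdvd B (sgnA B hB.1)) (hdvd Q (sgnA Q hQ.1)) (hdvd S (sgnB S hS.2.1)) hsq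
  · exact mul_ne_zero hA.1 (D.d_pos A).ne'
  · exact mul_ne_zero hP.1 (D.d_pos P).ne'
  · exact mul_ne_zero hR.2.1 (D.d_pos R).ne'
  · push_cast; linear_combination ew
  · push_cast; linear_combination ea
  · push_cast; linear_combination eb

/-- The first configuration. -/
theorem case_eleven {B₁ B₂ P₁ P₂ : ι} (hB₁ : D.a B₁ ≠ 0 ∧ D.b B₁ = D.a B₁ ∧ D.w B₁ = -D.a B₁)
    (hB₂ : D.a B₂ ≠ 0 ∧ D.b B₂ = D.a B₂ ∧ D.w B₂ = -D.a B₂)
    (hP₁ : D.a P₁ ≠ 0 ∧ D.b P₁ = 0 ∧ D.w P₁ = 0) (hP₂ : D.a P₂ ≠ 0 ∧ D.b P₂ = 0 ∧ D.w P₂ = 0)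
    (sa : ∀ i, D.a i ≠ 0 → i = B₁ ∨ i = B₂ ∨ i = P₁ ∨ i = P₂)
    (sbw : ∀ i, D.b i ≠ 0 → D.w i ≠ 0 → i = B₁ ∨ i = B₂) (hB : B₁ ≠ B₂) (hP : P₁ ≠ P₂) :
    N = 175560 := by
  have ne1 : B₁ ≠ P₁ ∧ B₁ ≠ P₂ ∧ B₂ ≠ P₁ ∧ B₂ ≠ P₂ ∧ D.o ≠ B₁ ∧ D.o ≠ B₂ ∧ D.o ≠ P₁ ∧ D.o ≠ P₂ := by
    refine ⟨?_, ?_, ?_, ?_, ?_, ?_, ?_, ?_⟩ <;> intro e
    · have := hP₁.2.1; rw [← e, hB₁.2.1] at this; exact hB₁.1 this
    · have := hP₂.2.1; rw [← e, hB₁.2.1] at this; exact hB₁.1 this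
    · have := hP₁.2.1; rw [← e, hB₂.2.1] at this; exact hB₂.1 this
    · have := hP₂.2.1; rw [← e, hB₂.2.1] at this; exact hB₂.1 this
    · exact hB₁.1 (e ▸ D.ao)
    · exact hB₂.1 (e ▸ D.ao)
    · exact hP₁.1 (e ▸ D.ao)
    · exact hP₂.1 (e ▸ D.ao)
  obtain ⟨n11, n12, n21, n22, no1, no2, noP1, noP2⟩ := ne1
  have sgnA : ∀ i, D.a i ≠ 0 → D.a i = 1 ∨ D.a i = -1 := fun i h => (D.a01 i).resolve_left h
  have sq1 : ∀ {σ : ℤ}, σ = 1 ∨ σ = -1 → σ * σ = 1 := fun h => by rcases h with rfl | rfl <;> rfl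
  set W := Finset.univ.filter (fun i => D.w i ≠ 0) with hW
  have hWcard : W.card = 4 := by
    have h : ∑ k, D.w k * D.w k = ∑ k ∈ W, (1 : ℤ) := by
      rw [← Finset.sum_subset (Finset.subset_univ W) fun k _ hk => ?_]
      · exact Finset.sum_congr rfl fun k hk =>
          sq1 ((D.w01 k).resolve_left (Finset.mem_filter.1 hk).2)
      · have : D.w k = 0 := by by_contra hc; exact hk (by simp [hW, hc])
        rw [this, zero_mul]
    rw [D.ww, Finset.sum_const, nsmul_eq_mul, mul_one] at h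
    exact_mod_cast h.symm
  have hsub : ({D.o, B₁, B₂} : Finset ι) ⊆ W := by
    intro i hi
    simp only [Finset.mem_insert, Finset.mem_singleton] at hi
    simp only [hW, Finset.mem_filter, Finset.mem_univ, true_and]
    rcases hi with rfl | rfl | rfl
    · rw [D.wo]; norm_num
    · rw [hB₁.2.2]; simpa using hB₁.1
    · rw [hB₂.2.2]; simpa using hB₂.1
  obtain ⟨E, hE⟩ : ∃ E, W \ {D.o, B₁, B₂} = {E} := Finset.card_eq_one.1 (by
    rw [Finset.card_sdiff_of_subset hsub, hWcard, Finset.card_insert_of_notMem (by simp [no1, no2]),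
      Finset.card_pair hB])
  have hEm : D.w E ≠ 0 ∧ E ≠ D.o ∧ E ≠ B₁ ∧ E ≠ B₂ := by
    have : E ∈ W \ {D.o, B₁, B₂} := by rw [hE]; simp
    simpa [hW] using this
  obtain ⟨wE, noE, n1E, n2E⟩ := hEm
  have hwS : ∀ i, D.w i ≠ 0 → i = D.o ∨ i = E ∨ i = B₁ ∨ i = B₂ := by
    intro i hi
    by_contra hc
    push Not at hc
    have : i ∈ W \ {D.o, B₁, B₂} := by simp [hW, hi, hc.1, hc.2.2.1, hc.2.2.2]
    rw [hE] at this
    exact hc.2.1 (Finset.mem_singleton.1 this)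
  have aE : D.a E = 0 := by
    by_contra hc
    rcases sa E hc with e | e | e | e
    · exact n1E e
    · exact n2E e
    · exact wE (e ▸ hP₁.2.2)
    · exact wE (e ▸ hP₂.2.2)
  have bE : D.b E = 0 := by
    by_contra hc
    rcases sbw E hc wE with e | e
    · exact n1E e
    · exact n2E e
  have noEP : E ≠ P₁ ∧ E ≠ P₂ := ⟨fun e => wE (e ▸ hP₁.2.2), fun e => wE (e ▸ hP₂.2.2)⟩
  have εE := (D.w01 E).resolve_left wE
  have hEu : D.u E ≠ 0 := fun h => wE (by simp [w, h, aE, bE])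
  have zE : D.z E = 1 * D.w E := by rw [(D.z_of_ne (Or.inl hEu)).2, aE, bE]; ring
  have zsE : D.u E - D.a E - D.b E + D.q E = D.w E := by
    rw [(D.z_of_ne (Or.inl hEu)).1, w]; ring
  have zsB : ∀ B, D.a B ≠ 0 → D.w B = -D.a B → D.u B - D.a B - D.b B + D.q B = -D.a B :=
    fun B h h' => by rw [(D.z_of_ne (Or.inr (Or.inl h))).1, add_zero]; exact h'
  have zB₁ : D.z B₁ = 5 * D.a B₁ := by
    rw [(D.z_of_ne (Or.inr (Or.inl hB₁.1))).2, hB₁.2.1, hB₁.2.2]; ring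
  have zB₂ : D.z B₂ = 5 * D.a B₂ := by
    rw [(D.z_of_ne (Or.inr (Or.inl hB₂.1))).2, hB₂.2.1, hB₂.2.2]; ring
  have zP₁ : D.z P₁ = 3 * D.a P₁ := by
    rw [(D.z_of_ne (Or.inr (Or.inl hP₁.1))).2, hP₁.2.1, hP₁.2.2]; ring
  have zP₂ : D.z P₂ = 3 * D.a P₂ := by
    rw [(D.z_of_ne (Or.inr (Or.inl hP₂.1))).2, hP₂.2.1, hP₂.2.2]; ring
  have zzE : D.z E * D.z E = 1 := by rw [zE, one_mul]; exact sq1 εE
  have zzB₁ : D.z B₁ * D.z B₁ = 25 := by rw [zB₁]; linear_combination 25 * sq1 (sgnA _ hB₁.1)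
  have zzB₂ : D.z B₂ * D.z B₂ = 25 := by rw [zB₂]; linear_combination 25 * sq1 (sgnA _ hB₂.1)
  have zzP₁ : D.z P₁ * D.z P₁ = 9 := by rw [zP₁]; linear_combination 9 * sq1 (sgnA _ hP₁.1)
  have zzP₂ : D.z P₂ * D.z P₂ = 9 := by rw [zP₂]; linear_combination 9 * sq1 (sgnA _ hP₂.1)
  obtain ⟨E0, E8, -⟩ := signed εE zE (D.cong E) (D.pos E) (D.pos' E) (D.d_pos E)
  obtain ⟨-, B8, -⟩ := signed (sgnA _ hB₁.1) zB₁ (D.cong _) (D.pos _) (D.pos' _) (D.d_pos _)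
  obtain ⟨-, B8', -⟩ := signed (sgnA _ hB₂.1) zB₂ (D.cong _) (D.pos _) (D.pos' _) (D.d_pos _)
  obtain ⟨-, P8, -⟩ := signed (sgnA _ hP₁.1) zP₁ (D.cong _) (D.pos _) (D.pos' _) (D.d_pos _)
  obtain ⟨-, P8', -⟩ := signed (sgnA _ hP₂.1) zP₂ (D.cong _) (D.pos _) (D.pos' _) (D.d_pos _)
  have hsw := fun (T : Type) [CommRing T] (k : ι → T) =>
    sum_four (R := T) ⟨noE.symm, no1, no2, n1E, n2E, hB⟩ hwS k
  have hsa := fun (T : Type) [CommRing T] (k : ι → T) =>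
    sum_four (R := T) ⟨hB, n11, n12, n21, n22, hP⟩ sa k
  have h1 := hsa ℤ D.d
  have h3 := hsw ℤ D.d
  simp only [Int.cast_id] at h1 h3
  rw [D.ad] at h1
  rw [D.wd, D.wo, D.d_o, hB₁.2.2, hB₂.2.2] at h3
  have e1 := hsa ℚ (fun i => (D.z i : ℚ) ^ 2 / D.d i)
  have e3 := hsw ℚ (fun i => (D.z i : ℚ) ^ 2 / D.d i)
  rw [term (sgnA _ hB₁.1), term (sgnA _ hB₂.1), term (sgnA _ hP₁.1), term (sgnA _ hP₂.1),
    zzB₁, zzB₂, zzP₁, zzP₂] at e1
  rw [hB₁.2.2, hB₂.2.2, term_neg (sgnA _ hB₁.1), term_neg (sgnA _ hB₂.1), term εE, zzB₁, zzB₂, zzE,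
    D.wo, D.z_o, D.d_o] at e3
  have ea := D.eq_a
  have ew := D.eq_w
  simp only [z] at e1 e3 ew
  rw [e1] at ea
  rw [e3] at ew
  push_cast at ea ew
  have hsq : (D.w E * D.d E) * (D.w E * D.d E) + (D.a P₁ * D.d P₁) * (D.a P₁ * D.d P₁) +
      (D.a P₂ * D.d P₂) * (D.a P₂ * D.d P₂) + (D.a B₁ * D.d B₁) * (D.a B₁ * D.d B₁) +
      (D.a B₂ * D.d B₂) * (D.a B₂ * D.d B₂) < (N : ℤ) := by
    have h := D.sq {D.o, E, P₁, P₂, B₁, B₂}
    rw [Finset.sum_insert (by simp [noE.symm, noP1, noP2, no1, no2]),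
      Finset.sum_insert (by simp [noEP.1, noEP.2, n1E, n2E]),
      Finset.sum_insert (by simp [hP, n11.symm, n21.symm]),
      Finset.sum_insert (by simp [n12.symm, n22.symm]), Finset.sum_pair hB, D.d_o] at h
    have key : ∀ {σ d : ℤ}, σ = 1 ∨ σ = -1 → σ * d * (σ * d) = d * d := fun h => by
      rcases h with rfl | rfl <;> ring
    rw [key εE, key (sgnA _ hB₁.1), key (sgnA _ hB₂.1), key (sgnA _ hP₁.1), key (sgnA _ hP₂.1)]
    linarith
  have hE1 : D.w E * D.d E ≠ 1 := by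
    have := D.d_two E noE
    rcases εE with e | e <;> rw [e] <;> omega
  rcases arith11 (e := D.w E * D.d E) (a₁ := D.a P₁ * D.d P₁) (a₂ := D.a P₂ * D.d P₂)
    (c₁ := D.a B₁ * D.d B₁) (c₂ := D.a B₂ * D.d B₂) D.hN (E8.trans (by norm_num))
    (P8.trans (by norm_num)) (P8'.trans (by norm_num)) (B8.trans (by norm_num))
    (B8'.trans (by norm_num)) hE1 (by linarith) (by linarith)
    (by push_cast; linear_combination ew) (by push_cast; linear_combination ea) hsq with h | ⟨he, hc⟩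
  · exact h
  · exfalso
    have hxE : D.w E = -1 ∧ D.d E = 15 := by
      have := D.d_pos E
      rcases εE with e | e <;> rw [e] at he ⊢ <;> constructor <;> omega
    have xE : D.x E = 3 := (D.hx E).1 hxE.2 (show D.z E = -1 by rw [zE, hxE.1]; norm_num)
      (by rw [zsE, hxE.1])
    have xB : ∀ B, D.a B ≠ 0 → D.w B = -D.a B → D.z B = 5 * D.a B →
        (D.a B * D.d B = 21 → (D.w B : ℚ) * D.x B = -3) ∧
        (D.a B * D.d B = -35 → (D.w B : ℚ) * D.x B = -1) := by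
      intro B ha hw hz
      have := D.d_pos B
      constructor <;> intro h
      · have e : D.a B = 1 ∧ D.d B = 21 := by
          rcases sgnA B ha with e | e <;> rw [e] at h ⊢ <;> constructor <;> omega
        rw [(D.hx B).2.2 e.2 (show D.z B = 5 by rw [hz, e.1]; norm_num)
          (by rw [zsB B ha hw, e.1]), hw, e.1]
        norm_num
      · have e : D.a B = -1 ∧ D.d B = 35 := by
          rcases sgnA B ha with e | e <;> rw [e] at h ⊢ <;> constructor <;> omega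
        rw [(D.hx B).2.1 e.2 (show D.z B = -5 by rw [hz, e.1]; norm_num)
          (by rw [zsB B ha hw, e.1]; norm_num), hw, e.1]
        norm_num
    have hw0 := D.wx
    have hwx := hsw ℚ D.x
    simp only [w] at hwx
    rw [hw0, xE] at hwx
    have e0 : ((D.u D.o - D.a D.o - D.b D.o : ℤ) : ℚ) * D.x D.o = 1 := by
      rw [show D.u D.o - D.a D.o - D.b D.o = D.w D.o from rfl, D.wo, D.xo]; norm_num
    have eE : ((D.u E - D.a E - D.b E : ℤ) : ℚ) = -1 := by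
      rw [show D.u E - D.a E - D.b E = D.w E from rfl, hxE.1]; norm_num
    rw [e0, eE] at hwx
    rcases hc with ⟨c1, c2⟩ | ⟨c1, c2⟩
    · have f1 := (xB B₁ hB₁.1 hB₁.2.2 zB₁).1 c1
      have f2 := (xB B₂ hB₂.1 hB₂.2.2 zB₂).2 c2
      simp only [w] at f1 f2
      linarith
    · have f1 := (xB B₁ hB₁.1 hB₁.2.2 zB₁).2 c1
      have f2 := (xB B₂ hB₂.1 hB₂.2.2 zB₂).1 c2
      simp only [w] at f1 f2
      linarith

set_option maxHeartbeats 1000000 in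
include D in
/-- The order. -/
theorem order_eq : N = 175560 := by
  have hab : ∀ i, D.a i * D.b i = if D.a i ≠ 0 ∧ D.b i ≠ 0 then 1 else 0 := by
    intro i
    rcases D.ab_same i with h | h | h
    · simp [h]
    · simp [h]
    · rcases D.a01 i with e | e | e <;> simp [← h, e]
  have haa : ∀ i, D.a i * D.a i = if D.a i ≠ 0 then 1 else 0 := by
    intro i
    rcases D.a01 i with e | e | e <;> simp [e]
  have hbb : ∀ i, D.b i * D.b i = if D.b i ≠ 0 then 1 else 0 := by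
    intro i
    rcases D.b01 i with e | e | e <;> simp [e]
  set SB := Finset.univ.filter (fun i => D.a i ≠ 0 ∧ D.b i ≠ 0) with hSB
  set SP := Finset.univ.filter (fun i => D.a i ≠ 0 ∧ D.b i = 0) with hSP
  set SR := Finset.univ.filter (fun i => D.a i = 0 ∧ D.b i ≠ 0) with hSR
  have cB : SB.card = 2 := by
    have h := D.ab
    simp only [hab, Finset.sum_boole] at h
    exact_mod_cast h
  have cA : (Finset.univ.filter fun i => D.a i ≠ 0).card = 4 := by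
    have h := D.aa
    simp only [haa, Finset.sum_boole] at h
    exact_mod_cast h
  have cB' : (Finset.univ.filter fun i => D.b i ≠ 0).card = 4 := by
    have h := D.bb
    simp only [hbb, Finset.sum_boole] at h
    exact_mod_cast h
  have cP : SP.card = 2 := by
    have h : (Finset.univ.filter fun i => D.a i ≠ 0) = SB ∪ SP := by
      ext i; simp only [hSB, hSP, Finset.mem_union, Finset.mem_filter, Finset.mem_univ, true_and]; tauto
    rw [h, Finset.card_union_of_disjoint (Finset.disjoint_left.2 fun i => by simp [hSB, hSP]; tauto),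
      cB] at cA
    omega
  have cR : SR.card = 2 := by
    have h : (Finset.univ.filter fun i => D.b i ≠ 0) = SB ∪ SR := by
      ext i; simp only [hSB, hSR, Finset.mem_union, Finset.mem_filter, Finset.mem_univ, true_and]; tauto
    rw [h, Finset.card_union_of_disjoint (Finset.disjoint_left.2 fun i => by simp [hSB, hSR]; tauto),
      cB] at cB'
    omega
  obtain ⟨B₁, B₂, hB, eB⟩ := Finset.card_eq_two.1 cB
  obtain ⟨P₁, P₂, hP, eP⟩ := Finset.card_eq_two.1 cP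
  obtain ⟨R₁, R₂, hR, eR⟩ := Finset.card_eq_two.1 cR
  have iB : ∀ i, (D.a i ≠ 0 ∧ D.b i ≠ 0) ↔ (i = B₁ ∨ i = B₂) := fun i => by
    have := congrArg (fun s => i ∈ s) eB; simpa [hSB] using this
  have iP : ∀ i, (D.a i ≠ 0 ∧ D.b i = 0) ↔ (i = P₁ ∨ i = P₂) := fun i => by
    have := congrArg (fun s => i ∈ s) eP; simpa [hSP] using this
  have iR : ∀ i, (D.a i = 0 ∧ D.b i ≠ 0) ↔ (i = R₁ ∨ i = R₂) := fun i => by
    have := congrArg (fun s => i ∈ s) eR; simpa [hSR] using this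
  have b1 := (iB B₁).2 (Or.inl rfl)
  have b2 := (iB B₂).2 (Or.inr rfl)
  have p1 := (iP P₁).2 (Or.inl rfl)
  have p2 := (iP P₂).2 (Or.inr rfl)
  have r1 := (iR R₁).2 (Or.inl rfl)
  have r2 := (iR R₂).2 (Or.inr rfl)
  have e1 : D.b B₁ = D.a B₁ := by rcases D.ab_same B₁ with h | h | h <;> omega
  have e2 : D.b B₂ = D.a B₂ := by rcases D.ab_same B₂ with h | h | h <;> omega
  have sa : ∀ i, D.a i ≠ 0 → i = B₁ ∨ i = B₂ ∨ i = P₁ ∨ i = P₂ := fun i hi => by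
    by_cases h : D.b i = 0
    · exact Or.inr (Or.inr ((iP i).1 ⟨hi, h⟩))
    · rcases (iB i).1 ⟨hi, h⟩ with e | e
      exacts [Or.inl e, Or.inr (Or.inl e)]
  have sb : ∀ i, D.b i ≠ 0 → i = B₁ ∨ i = B₂ ∨ i = R₁ ∨ i = R₂ := fun i hi => by
    by_cases h : D.a i = 0
    · exact Or.inr (Or.inr ((iR i).1 ⟨h, hi⟩))
    · rcases (iB i).1 ⟨h, hi⟩ with e | e
      exacts [Or.inl e, Or.inr (Or.inl e)]
  have dne : B₁ ≠ P₁ ∧ B₁ ≠ P₂ ∧ B₂ ≠ P₁ ∧ B₂ ≠ P₂ ∧ B₁ ≠ R₁ ∧ B₁ ≠ R₂ ∧ B₂ ≠ R₁ ∧ B₂ ≠ R₂ ∧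
      P₁ ≠ R₁ ∧ P₁ ≠ R₂ ∧ P₂ ≠ R₁ ∧ P₂ ≠ R₂ :=
    ⟨fun e => b1.2 (e ▸ p1.2), fun e => b1.2 (e ▸ p2.2), fun e => b2.2 (e ▸ p1.2),
      fun e => b2.2 (e ▸ p2.2), fun e => b1.1 (e ▸ r1.1), fun e => b1.1 (e ▸ r2.1),
      fun e => b2.1 (e ▸ r1.1), fun e => b2.1 (e ▸ r2.1), fun e => p1.1 (e ▸ r1.1),
      fun e => p1.1 (e ▸ r2.1), fun e => p2.1 (e ▸ r1.1), fun e => p2.1 (e ▸ r2.1)⟩
  obtain ⟨nBP, nBP', nBP'', nBP''', nBR, nBR', nBR'', nBR''', nPR, nPR', nPR'', nPR'''⟩ := dne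
  have hwa := D.wa
  have hwb := D.wb
  rw [Finset.sum_congr rfl (g := fun i => D.a i * D.w i) fun i _ => mul_comm _ _] at hwa
  rw [Finset.sum_congr rfl (g := fun i => D.b i * D.w i) fun i _ => mul_comm _ _] at hwb
  have hs1 := sum_four (R := ℤ) ⟨hB, nBP, nBP', nBP'', nBP''', hP⟩ sa D.w
  have hs2 := sum_four (R := ℤ) ⟨hB, nBR, nBR', nBR'', nBR''', hR⟩ sb D.w
  simp only [Int.cast_id] at hs1 hs2
  rw [hwa] at hs1
  rw [hwb, e1, e2] at hs2
  have h3 : ∑ k ∈ ({D.o, B₁, B₂, P₁, P₂, R₁, R₂} : Finset ι), D.w k * D.w k ≤ ∑ k, D.w k * D.w k :=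
    Finset.sum_le_univ_sum_of_nonneg fun k => mul_self_nonneg _
  have noA : ∀ i, D.a i ≠ 0 ∨ D.b i ≠ 0 → D.o ≠ i := fun i h e => by
    rw [← e, D.ao, D.bo] at h; simp at h
  rw [Finset.sum_insert (by simp [noA _ (Or.inl b1.1), noA _ (Or.inl b2.1), noA _ (Or.inl p1.1),
      noA _ (Or.inl p2.1), noA _ (Or.inr r1.2), noA _ (Or.inr r2.2)]),
    Finset.sum_insert (by simp [hB, nBP, nBP', nBR, nBR']),
    Finset.sum_insert (by simp [nBP'', nBP''', nBR'', nBR''']),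
    Finset.sum_insert (by simp [hP, nPR, nPR']),
    Finset.sum_insert (by simp [nPR'', nPR''']), Finset.sum_pair hR, D.ww, D.wo] at h3
  have s01 : ∀ {σ x : ℤ}, (σ = 0 ∨ σ = 1 ∨ σ = -1) → (x = 0 ∨ x = 1 ∨ x = -1) →
      σ * x = 0 ∨ σ * x = 1 ∨ σ * x = -1 := fun h h' => by
    rcases h with rfl | rfl | rfl <;> rcases h' with rfl | rfl | rfl <;> norm_num
  have sqs : ∀ {σ x : ℤ}, σ ≠ 0 → (σ = 0 ∨ σ = 1 ∨ σ = -1) → σ * x * (σ * x) = x * x :=
    fun h0 h => by rcases h with rfl | rfl | rfl <;> first | exact absurd rfl h0 | ring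
  have back : ∀ {σ x v : ℤ}, σ ≠ 0 → (σ = 0 ∨ σ = 1 ∨ σ = -1) → σ * x = v → x = v * σ :=
    fun h0 h h' => by rcases h with rfl | rfl | rfl <;> first | exact absurd rfl h0 | linarith
  rcases six_signs _ _ _ _ _ _ (s01 (D.a01 B₁) (D.w01 B₁)) (s01 (D.a01 B₂) (D.w01 B₂))
    (s01 (D.a01 P₁) (D.w01 P₁)) (s01 (D.a01 P₂) (D.w01 P₂)) (s01 (D.b01 R₁) (D.w01 R₁))
    (s01 (D.b01 R₂) (D.w01 R₂)) hs1.symm hs2.symm
    (by rw [sqs b1.1 (D.a01 _), sqs b2.1 (D.a01 _), sqs p1.1 (D.a01 _), sqs p2.1 (D.a01 _),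
          sqs r1.2 (D.b01 _), sqs r2.2 (D.b01 _)]; linarith) with
    ⟨x1, x2, y1, y2, z1, z2⟩ | ⟨hx, hy, hz⟩
  · refine D.case_eleven ⟨b1.1, e1, by rw [back b1.1 (D.a01 _) x1]; ring⟩
      ⟨b2.1, e2, by rw [back b2.1 (D.a01 _) x2]; ring⟩
      ⟨p1.1, p1.2, by rw [back p1.1 (D.a01 _) y1]; ring⟩
      ⟨p2.1, p2.2, by rw [back p2.1 (D.a01 _) y2]; ring⟩ sa (fun i hi hw => ?_) hB hP
    rcases sb i hi with e | e | e | e
    · exact Or.inl e
    · exact Or.inr e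
    · exact absurd (e ▸ (by rw [back r1.2 (D.b01 _) z1]; ring) : D.w i = 0) hw
    · exact absurd (e ▸ (by rw [back r2.2 (D.b01 _) z2]; ring) : D.w i = 0) hw
  · exfalso
    obtain ⟨B, A, hBA, fB, fA, saB, sbB⟩ : ∃ B A, B ≠ A ∧
        (D.a B ≠ 0 ∧ D.b B = D.a B ∧ D.w B = -D.a B) ∧ (D.a A ≠ 0 ∧ D.b A = D.a A ∧ D.w A = 0) ∧
        (∀ i, i = B₁ → i = B ∨ i = A) ∧ (∀ i, i = B₂ → i = B ∨ i = A) := by
      rcases hx with ⟨x1, x2⟩ | ⟨x1, x2⟩
      · exact ⟨B₁, B₂, hB, ⟨b1.1, e1, by rw [back b1.1 (D.a01 _) x1]; ring⟩,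
          ⟨b2.1, e2, by rw [back b2.1 (D.a01 _) x2]; ring⟩, fun i h => Or.inl h, fun i h => Or.inr h⟩
      · exact ⟨B₂, B₁, hB.symm, ⟨b2.1, e2, by rw [back b2.1 (D.a01 _) x2]; ring⟩,
          ⟨b1.1, e1, by rw [back b1.1 (D.a01 _) x1]; ring⟩, fun i h => Or.inr h, fun i h => Or.inl h⟩
    obtain ⟨Q, P, hQP, fQ, fP, saQ, saQ'⟩ : ∃ Q P, Q ≠ P ∧
        (D.a Q ≠ 0 ∧ D.b Q = 0 ∧ D.w Q = -D.a Q) ∧ (D.a P ≠ 0 ∧ D.b P = 0 ∧ D.w P = 0) ∧
        (∀ i, i = P₁ → i = Q ∨ i = P) ∧ (∀ i, i = P₂ → i = Q ∨ i = P) := by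
      rcases hy with ⟨x1, x2⟩ | ⟨x1, x2⟩
      · exact ⟨P₁, P₂, hP, ⟨p1.1, p1.2, by rw [back p1.1 (D.a01 _) x1]; ring⟩,
          ⟨p2.1, p2.2, by rw [back p2.1 (D.a01 _) x2]; ring⟩, fun i h => Or.inl h, fun i h => Or.inr h⟩
      · exact ⟨P₂, P₁, hP.symm, ⟨p2.1, p2.2, by rw [back p2.1 (D.a01 _) x2]; ring⟩,
          ⟨p1.1, p1.2, by rw [back p1.1 (D.a01 _) x1]; ring⟩, fun i h => Or.inr h, fun i h => Or.inl h⟩
    obtain ⟨S, R, hSR', fS, fR, sbS, sbS'⟩ : ∃ S R, S ≠ R ∧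
        (D.a S = 0 ∧ D.b S ≠ 0 ∧ D.w S = -D.b S) ∧ (D.a R = 0 ∧ D.b R ≠ 0 ∧ D.w R = 0) ∧
        (∀ i, i = R₁ → i = S ∨ i = R) ∧ (∀ i, i = R₂ → i = S ∨ i = R) := by
      rcases hz with ⟨x1, x2⟩ | ⟨x1, x2⟩
      · exact ⟨R₁, R₂, hR, ⟨r1.1, r1.2, by rw [back r1.2 (D.b01 _) x1]; ring⟩,
          ⟨r2.1, r2.2, by rw [back r2.2 (D.b01 _) x2]; ring⟩, fun i h => Or.inl h, fun i h => Or.inr h⟩
      · exact ⟨R₂, R₁, hR.symm, ⟨r2.1, r2.2, by rw [back r2.2 (D.b01 _) x2]; ring⟩,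
          ⟨r1.1, r1.2, by rw [back r1.2 (D.b01 _) x1]; ring⟩, fun i h => Or.inr h, fun i h => Or.inl h⟩
    refine D.case_ten fB fA fQ fP fS fR (fun i hi => ?_) (fun i hi => ?_) hBA hQP hSR'
    · rcases sa i hi with e | e | e | e
      · exact (saB i e).elim Or.inl fun h => Or.inr (Or.inl h)
      · exact (sbB i e).elim Or.inl fun h => Or.inr (Or.inl h)
      · exact Or.inr (Or.inr (saQ i e))
      · exact Or.inr (Or.inr (saQ' i e))
    · rcases sb i hi with e | e | e | e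
      · exact (saB i e).elim Or.inl fun h => Or.inr (Or.inl h)
      · exact (sbB i e).elim Or.inl fun h => Or.inr (Or.inl h)
      · exact Or.inr (Or.inr (sbS i e))
      · exact Or.inr (Or.inr (sbS' i e))

end MultData

end CfsgLib.J1Order
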