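import Cfsg.Agent.J1Order.Model
import Cfsg.Agent.Char.Orthogonality

/-!
# Multiplicities of linear characters of three subgroups of `C₂ × A₅`

The subgroups are `⟨t⟩ × V₄`, `⟨t⟩ × A₄` and `⟨t⟩ × S₃`.
-/

set_option autoImplicit false
set_option maxRecDepth 100000

namespace CfsgLib.J1Order

open CfsgLib.Char Finset
open scoped ComplexConjugate

/-- A primitive cube root of unity. -/
noncomputable def om : ℂ := Complex.exp (2 * Real.pi * Complex.I / 3)

theorem isPrimitive_om : IsPrimitiveRoot om 3 := by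
  have := Complex.isPrimitiveRoot_exp 3 (by norm_num)
  rw [om]
  simpa using this

theorem om_pow : om ^ 3 = 1 := isPrimitive_om.pow_eq_one

theorem om_sum : om + om ^ 2 = -1 := by
  have h := isPrimitive_om.geom_sum_eq_zero (by norm_num)
  simp only [Finset.sum_range_succ, Finset.sum_range_zero] at h
  linear_combination h

/-- Data of a linear character `s · om ^ k` of a subgroup of `A₅`, inflated and twisted. -/
structure LinData where
  P : Alt → Bool
  tw : Bool
  sA : Alt → ℤ
  k : Alt → Fin 3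
  E : Fin 10 → ℤ
  ord : ℕ
  p_one : P 1 = true
  p_mul : ∀ x y, P x = true → P y = true → P (x * y) = true
  p_inv : ∀ x, P x = true → P x⁻¹ = true
  s_one : sA 1 = 1
  s_mul : ∀ x y, P x = true → P y = true → sA (x * y) = sA x * sA y
  k_one : k 1 = 0
  k_mul : ∀ x y, P x = true → P y = true → k (x * y) = k x + k y
  table : ∀ i, (∑ x : Mdl, if P x.2 = true ∧ cls x = i ∧ k x.2 = 1 then
        (if tw then sgnT x else 1) * sA x.2 else 0) =
      (∑ x : Mdl, if P x.2 = true ∧ cls x = i ∧ k x.2 = 2 then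
        (if tw then sgnT x else 1) * sA x.2 else 0) ∧
    (∑ x : Mdl, if P x.2 = true ∧ cls x = i ∧ k x.2 = 0 then
        (if tw then sgnT x else 1) * sA x.2 else 0) -
      (∑ x : Mdl, if P x.2 = true ∧ cls x = i ∧ k x.2 = 1 then
        (if tw then sgnT x else 1) * sA x.2 else 0) = E i
  card : (Finset.univ.filter fun x : Mdl => P x.2 = true).card = ord
  supp : ∀ x : Mdl, P x.2 = true →
    cls x = 0 ∨ cls x = 1 ∨ cls x = 2 ∨ cls x = 5 ∨ cls x = 6 ∨ cls x = 7

namespace LinData

variable (L : LinData)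

/-- The subgroup. -/
def sub : Subgroup Mdl :=
  subgroupOfPred (fun x => L.P x.2) L.p_one (fun x y => L.p_mul x.2 y.2) (fun x => L.p_inv x.2)

instance : DecidablePred (· ∈ L.sub) := fun x => inferInstanceAs (Decidable (L.P x.2 = true))

/-- The linear character. -/
noncomputable def lam : L.sub →* ℂˣ :=
  MonoidHom.toHomUnits
    { toFun := fun x => (((if L.tw then sgnT (x : Mdl) else 1) * L.sA (x : Mdl).2 : ℤ) : ℂ) *
        om ^ (L.k (x : Mdl).2 : ℕ)
      map_one' := by
        rw [Subgroup.coe_one, Prod.snd_one, L.s_one, L.k_one, show sgnT 1 = 1 by decide +kernel]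
        simp
      map_mul' := fun x y => by
        have hk := L.k_mul (x : Mdl).2 (y : Mdl).2 x.2 y.2
        have hs := L.s_mul (x : Mdl).2 (y : Mdl).2 x.2 y.2
        have hp : om ^ ((L.k (x : Mdl).2 + L.k (y : Mdl).2 : Fin 3) : ℕ) =
            om ^ (L.k (x : Mdl).2 : ℕ) * om ^ (L.k (y : Mdl).2 : ℕ) := by
          rw [← pow_add, Fin.val_add, ← pow_eq_pow_mod _ om_pow]
        rw [Subgroup.coe_mul, Prod.snd_mul, hk, hs, hp, sgnT_mul]
        split_ifs <;> push_cast <;> ring }

/-- The multiplicity of the linear character in a character. -/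
theorem mult {f : Mdl → ℂ} (hf : Cfsg.IsCharacter Mdl f) (F : Fin 10 → ℂ)
    (hF : ∀ x : Mdl, L.P x.2 = true → conj (f x) = F (cls x)) :
    ∃ n : ℕ, (L.ord : ℂ) * n = ∑ i, (L.E i : ℂ) * F i := by
  classical
  obtain ⟨n, hn⟩ := IsCharacter.exists_classInner_eq_natCast' (isCharacter_ofHom L.lam)
    (IsCharacter.restrict hf L.sub)
  refine ⟨n, ?_⟩
  have hc : Nat.card L.sub = L.ord := by
    rw [Nat.card_eq_fintype_card, Fintype.card_subtype]
    exact L.card
  have hpos : (L.ord : ℂ) ≠ 0 := Nat.cast_ne_zero.2 (hc ▸ Nat.card_pos.ne')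
  rw [← hn, classInner_def, hc, mul_inv_cancel_left₀ hpos]
  set s : Mdl → ℤ := fun x => (if L.tw then sgnT x else 1) * L.sA x.2 with hs
  have h1 : ∀ x : L.sub, (L.lam x : ℂ) * conj (f (x : Mdl)) =
      ∑ i, ∑ j : Fin 3, ((if L.P (x : Mdl).2 = true ∧ cls (x : Mdl) = i ∧ L.k (x : Mdl).2 = j then
        s x else 0 : ℤ) : ℂ) * om ^ (j : ℕ) * F i := by
    intro x
    rw [Finset.sum_eq_single (cls (x : Mdl)), Finset.sum_eq_single (L.k (x : Mdl).2),
      if_pos ⟨x.2, rfl, rfl⟩, hF _ x.2]
    · rfl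
    · intro j _ hj
      rw [if_neg fun h => hj h.2.2.symm]; simp
    · exact fun h => absurd (Finset.mem_univ _) h
    · intro i _ hi
      refine Finset.sum_eq_zero fun j _ => ?_
      rw [if_neg fun h => hi h.2.1.symm]; simp
    · exact fun h => absurd (Finset.mem_univ _) h
  rw [Finset.sum_congr rfl fun x _ => h1 x, Finset.sum_comm]
  refine Finset.sum_congr rfl fun i _ => ?_
  rw [Finset.sum_comm, Fin.sum_univ_three]
  simp only [← Finset.sum_mul, ← Int.cast_sum]
  have h2 : ∀ j : Fin 3, ∑ x : L.sub, (if L.P (x : Mdl).2 = true ∧ cls (x : Mdl) = i ∧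
      L.k (x : Mdl).2 = j then s x else 0) =
      ∑ x : Mdl, (if L.P x.2 = true ∧ cls x = i ∧ L.k x.2 = j then s x else 0) := by
    intro j
    rw [← Finset.sum_subtype (Finset.univ.filter fun x : Mdl => L.P x.2 = true)
      (fun x => by simp only [Finset.mem_filter, Finset.mem_univ, true_and]; exact Iff.rfl)
      (fun x : Mdl => if L.P x.2 = true ∧ cls x = i ∧ L.k x.2 = j then s x else 0),
      Finset.sum_filter]
    refine Finset.sum_congr rfl fun x _ => ?_
    by_cases h : L.P x.2 = true <;> simp [h]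
  rw [h2, h2, h2]
  simp only [hs]
  obtain ⟨e1, e2⟩ := L.table i
  rw [← e2, ← e1, Fin.val_zero, Fin.val_one, Fin.val_two, pow_zero, pow_one, mul_one, Int.cast_sub]
  linear_combination (((∑ x : Mdl, if L.P x.2 = true ∧ cls x = i ∧ L.k x.2 = 1 then
        (if L.tw then sgnT x else 1) * L.sA x.2 else 0 : ℤ) : ℂ) * F i) * om_sum

end LinData

/-- An involution of `A₅` fixing `0`. -/
def u0 : Alt :=
  ⟨Equiv.swap 1 2 * Equiv.swap 3 4, Equiv.Perm.mem_alternatingGroup.2 (by decide +kernel)⟩

/-- The four group fixing `0`. -/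
def pV (x : Alt) : Bool := decide (x.1 0 = 0 ∧ x * x = 1)

/-- The stabilizer of `0`. -/
def pA (x : Alt) : Bool := decide (x.1 0 = 0)

/-- The stabilizer of `{0, 1}`. -/
def pD (x : Alt) : Bool := decide ((x.1 0 = 0 ∨ x.1 0 = 1) ∧ (x.1 1 = 0 ∨ x.1 1 = 1))

/-- The cubic exponent on the stabilizer of `0`. -/
def k3 (x : Alt) : Fin 3 := if x * x = 1 then 0 else if g3⁻¹ * x * (g3⁻¹ * x) = 1 then 1 else 2

/-- The sign on the stabilizer of `{0, 1}`. -/
def sD (x : Alt) : ℤ := if x.1 0 = 0 then 1 else -1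

/-- `⟨t⟩ × V₄` with the trivial character. -/
def linV : LinData where
  P := pV
  tw := false
  sA _ := 1
  k _ := 0
  E := ![1, 3, 0, 0, 0, 1, 3, 0, 0, 0]
  ord := 8
  p_one := by decide +kernel
  p_mul := by decide +kernel
  p_inv := by decide +kernel
  s_one := by decide +kernel
  s_mul := by decide +kernel
  k_one := by decide +kernel
  k_mul := by decide +kernel
  table := by decide +kernel
  card := by decide +kernel
  supp := by decide +kernel

/-- `⟨t⟩ × V₄` with the sign. -/
def linV' : LinData :=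
  { linV with
    tw := true
    E := ![1, 3, 0, 0, 0, -1, -3, 0, 0, 0]
    table := by decide +kernel }

/-- `⟨t⟩ × A₄` with the trivial character. -/
def linA : LinData where
  P := pA
  tw := false
  sA _ := 1
  k _ := 0
  E := ![1, 3, 8, 0, 0, 1, 3, 8, 0, 0]
  ord := 24
  p_one := by decide +kernel
  p_mul := by decide +kernel
  p_inv := by decide +kernel
  s_one := by decide +kernel
  s_mul := by decide +kernel
  k_one := by decide +kernel
  k_mul := by decide +kernel
  table := by decide +kernel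
  card := by decide +kernel
  supp := by decide +kernel

/-- `⟨t⟩ × A₄` with a cubic character. -/
def linAω : LinData :=
  { linA with
    k := k3
    E := ![1, 3, -4, 0, 0, 1, 3, -4, 0, 0]
    k_one := by decide +kernel
    k_mul := by decide +kernel
    table := by decide +kernel }

/-- `⟨t⟩ × A₄` with a character of order six. -/
def linAω' : LinData :=
  { linAω with
    tw := true
    E := ![1, 3, -4, 0, 0, -1, -3, 4, 0, 0]
    table := by decide +kernel }

/-- `⟨t⟩ × S₃` with the sign of `S₃`. -/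
def linD : LinData where
  P := pD
  tw := false
  sA := sD
  k _ := 0
  E := ![1, -3, 2, 0, 0, 1, -3, 2, 0, 0]
  ord := 12
  p_one := by decide +kernel
  p_mul := by decide +kernel
  p_inv := by decide +kernel
  s_one := by decide +kernel
  s_mul := by decide +kernel
  k_one := by decide +kernel
  k_mul := by decide +kernel
  table := by decide +kernel
  card := by decide +kernel
  supp := by decide +kernel

/-- The subgroup `⟨t⟩ × V₄`. -/
abbrev fourSub : Subgroup Mdl := linV.sub

theorem u0_cls : cls ((1 : Multiplicative (ZMod 2)), u0) = 1 := by decide +kernel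

theorem four_involutions : ∀ x : Mdl, x.1 = 1 → pV x.2 = true → x ≠ 1 →
    ∃ y : Mdl, y * (1, u0) * y⁻¹ = x := by decide +kernel

theorem four_z : pV z.2 = true ∧ cls z = 5 ∧ cls ((1 : Multiplicative (ZMod 2)), g3) = 2 := by
  decide +kernel

theorem three_inv : ∃ y : Mdl, y * (1, g3) * y⁻¹ = ((1 : Multiplicative (ZMod 2)), g3)⁻¹ := by
  decide +kernel

theorem conj_one : ∀ x : Mdl, cls x = 1 → ∃ y : Mdl, y * (1, u0) * y⁻¹ = x := by decide +kernel

theorem invol_cls : ∀ x : Mdl, cls x = 1 ∨ cls x = 5 ∨ cls x = 6 → x ≠ 1 ∧ x * x = 1 :=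
  fun x h => (invol_iff x).2 h

theorem g3_pow : ((1 : Multiplicative (ZMod 2)), g3) ^ 15 = 1 := pow_three _ cls_rep.2

end CfsgLib.J1Order
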