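import Cfsg.Agent.J1Order.Induced
import Cfsg.Agent.J1Order.Subgroups
import Cfsg.Agent.J1Order.Combinatorics
import Cfsg.Agent.Char.ClassProducts
import Cfsg.Agent.Char.Central
import Cfsg.Agent.Char.Linear
import Cfsg.Agent.Invol.ThompsonTransfer
import Mathlib.GroupTheory.Sylow
import Mathlib.GroupTheory.Subgroup.Simple

/-!
# Simple groups with an involution centralizer `C₂ × A₅`
-/

set_option autoImplicit false
set_option maxRecDepth 100000
set_option linter.style.haveILetI false

namespace CfsgLib.J1Order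

open CfsgLib.Char Finset
open scoped ComplexConjugate

universe u

/-- The Gram matrix. -/
def gram : Fin 4 → Fin 4 → ℤ := ![![8, 4, 4, 0], ![4, 4, 2, 0], ![4, 2, 4, 0], ![0, 0, 0, 2]]

theorem tinner_tab (j k : Fin 4) : tinner (tab j) (tab k) = gram j k := by
  fin_cases j <;> fin_cases k <;>
    simp [tinner, tab, gram, Fin.sum_univ_succ, csize, tRe, tIm, conj_w] <;>
    ring_nf <;> simp [pow_two, w_sq] <;> norm_num <;> ring

theorem tinner_tab_one (k : Fin 4) : tinner (tab k) (fun _ => 1) = if k = 0 then 1 else 0 := by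
  fin_cases k <;>
    simp [tinner, tab, Fin.sum_univ_succ, csize, tRe, tIm] <;> ring_nf

theorem tab_indicator (i : Fin 10) :
    tab 0 i + 2 * tab 1 i + 2 * tab 2 i + 4 * tab 3 i = if i = 5 then 120 else 0 := by
  fin_cases i <;> simp [tab, tRe, tIm] <;> ring_nf

theorem tab_indicator_seven (i : Fin 10) :
    tab 0 i - tab 1 i - tab 2 i + tab 3 i = if i = 7 then 6 else 0 := by
  fin_cases i <;> simp [tab, tRe, tIm] <;> ring_nf

/-- The averaged number of pairs of involutions against the four tables. -/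
def pairsVal : Fin 4 → ℕ := ![14, 4, 4, 0]

theorem tab_pairs (k : Fin 4) :
    ∑ i, (csize i : ℂ) * (tab k i * (cnt i : ℂ)) = 120 * (pairsVal k : ℂ) := by
  fin_cases k <;>
    simp [tab, Fin.sum_univ_succ, csize, cnt, pairsVal, tRe, tIm] <;> ring_nf

/-- The four group inside `A₅`. -/
def fourPart : Subgroup Mdl :=
  subgroupOfPred (fun v : Mdl => decide (v.1 = 1) && pV v.2)
    (by decide +kernel) (by decide +kernel) (by decide +kernel)

instance : DecidablePred (· ∈ fourPart) := fun v =>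
  inferInstanceAs (Decidable ((decide (v.1 = 1) && pV v.2) = true))

theorem card_fourPart : (Finset.univ.filter fun v : Mdl => v ∈ fourPart).card = 4 := by
  decide +kernel

theorem cls_zero : ∀ x : Mdl, cls x = 0 → x = 1 := by decide +kernel

variable {G : Type u} [Group G] [Fintype G] [DecidableEq G] {t : G}
omit [DecidableEq G] in
set_option linter.unusedSectionVars false in
theorem eq_one_of_degree_one [IsSimpleGroup G] (hnc : ¬ ∀ x y : G, x * y = y * x) {χ : G → ℂ}
    (hχ : Cfsg.IsIrrCharacter G χ) (h1 : χ 1 = 1) : χ = fun _ => 1 := by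
  obtain ⟨lam, rfl⟩ := IsCharacter.exists_hom (IsIrrCharacter.isCharacter hχ) h1
  rcases IsSimpleGroup.eq_bot_or_eq_top_of_normal lam.ker inferInstance with h | h
  · exact absurd (fun x y => (MonoidHom.ker_eq_bot_iff lam).1 h (by rw [map_mul, map_mul, mul_comm]))
      hnc
  · funext g
    have : lam g = 1 := MonoidHom.mem_ker.1 (h ▸ Subgroup.mem_top g)
    simp [this]

variable (φ : Subgroup.centralizer ({t} : Set G) ≃* Mdl)

omit [Fintype G] [DecidableEq G] in
theorem coe_invol (ht : orderOf t = 2) {y : G} (hy : IsConj t y) : y * y = 1 ∧ y ≠ 1 := by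
  obtain ⟨g, rfl⟩ := isConj_iff.1 hy
  refine ⟨?_, fun e => ?_⟩
  · rw [← sq, conj_pow, ← ht, pow_orderOf_eq_one, mul_one, mul_inv_cancel]
  · rw [conj_eq_one_iff] at e
    rw [e, orderOf_one] at ht
    exact absurd ht (by norm_num)

include φ

omit [DecidableEq G] in
theorem card_mod (hP : ∃ P : Sylow 2 G, t ∈ P ∧ ∀ x ∈ P, x * t = t * x) :
    Nat.card G % 16 = 8 := by
  haveI : Fact (Nat.Prime 2) := ⟨Nat.prime_two⟩
  obtain ⟨P, -, hP⟩ := hP
  have hle : (P : Subgroup G) ≤ Subgroup.centralizer ({t} : Set G) := fun x hx =>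
    Subgroup.mem_centralizer_singleton_iff.2 (hP x hx)
  have h1 := Subgroup.card_dvd_of_le hle
  rw [card_centralizer φ] at h1
  have h8 : 8 ∣ Nat.card G := by
    refine Dvd.dvd.trans (by norm_num : 8 ∣ 120) ?_
    rw [← card_centralizer φ]
    exact Subgroup.card_subgroup_dvd_card _
  have h16 : ¬ 16 ∣ Nat.card G := by
    intro h
    have h2 : 2 ^ 4 ∣ Nat.card (P : Subgroup G) := P.pow_dvd_card_of_pow_dvd_card h
    exact absurd (h2.trans h1) (by norm_num)
  omega

omit [DecidableEq G] in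
theorem isConj_of_invol [IsSimpleGroup G] (ht : orderOf t = 2) (h16 : Nat.card G % 16 = 8) {x : G}
    (hx : x * x = 1) (hx1 : x ≠ 1) : IsConj t x := by
  set ι : Mdl →* G := (Subgroup.centralizer ({t} : Set G)).subtype.comp φ.symm.toMonoidHom with hι
  have hinj : Function.Injective ι := Subtype.val_injective.comp φ.symm.injective
  set Q : Subgroup Mdl := fourPart with hQ
  have cF : Nat.card fourSub = 8 := by
    rw [Nat.card_eq_fintype_card, Fintype.card_subtype]
    exact linV.card
  have cQ : Nat.card Q = 4 := by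
    rw [hQ, Nat.card_eq_fintype_card, Fintype.card_subtype]
    exact card_fourPart
  have hQF : Q ≤ fourSub := fun v hv => by
    have : (decide (v.1 = 1) && pV v.2) = true := hv
    rw [Bool.and_eq_true] at this
    exact this.2
  have c8 : Nat.card (fourSub.map ι) = 8 := by rw [Subgroup.card_map_of_injective hinj, cF]
  have c4 : Nat.card (Q.map ι) = 4 := by rw [Subgroup.card_map_of_injective hinj, cQ]
  have hodd : Odd (fourSub.map ι).index := by
    have h := Subgroup.card_mul_index (fourSub.map ι)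
    rw [c8] at h
    rw [Nat.odd_iff]
    omega
  have hrel : (Q.map ι).relIndex (fourSub.map ι) = 2 := by
    have h := Subgroup.card_mul_index ((Q.map ι).subgroupOf (fourSub.map ι))
    rw [Nat.card_congr (Subgroup.subgroupOfEquivOfLe (Subgroup.map_mono hQF)).toEquiv, c4, c8] at h
    show ((Q.map ι).subgroupOf (fourSub.map ι)).index = 2
    omega
  have key : ∀ y : G, y * y = 1 → y ≠ 1 → IsConj (ι (1, u0)) y := by
    intro y hy hy1
    rcases CfsgLib.ThompsonTransfer.thompson_transfer _ _ hodd hrel hy with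
      ⟨M, hM, hM2, hyM⟩ | ⟨g, hg⟩
    · exfalso
      rcases IsSimpleGroup.eq_bot_or_eq_top_of_normal M hM with rfl | rfl
      · rw [Subgroup.index_bot] at hM2
        omega
      · exact hyM (Subgroup.mem_top y)
    · obtain ⟨v, hv, hvy⟩ := hg
      have hv' : (decide (v.1 = 1) && pV v.2) = true := hv
      rw [Bool.and_eq_true, decide_eq_true_iff] at hv'
      have hv1 : v ≠ 1 := by
        rintro rfl
        rw [map_one, eq_comm, conj_eq_one_iff] at hvy
        exact hy1 hvy
      obtain ⟨w, hw⟩ := four_involutions v hv'.1 hv'.2 hv1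
      refine IsConj.trans (c := y) (isConj_iff.2 ⟨ι w, ?_⟩ : IsConj _ (ι v))
        (isConj_iff.2 ⟨g, hvy.symm⟩).symm
      rw [← map_inv, ← map_mul, ← map_mul, hw]
  have ht2 : t * t = 1 := by rw [← sq, ← ht, pow_orderOf_eq_one]
  have ht1 : t ≠ 1 := fun e => by rw [e, orderOf_one] at ht; exact absurd ht (by norm_num)
  exact (key t ht2 ht1).symm.trans (key x hx hx1)

omit [DecidableEq G] in
set_option linter.unusedSectionVars false in
theorem not_commutative_G : ¬ ∀ x y : G, x * y = y * x := fun h => by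
  have hne : ((1 : Multiplicative (ZMod 2)), g5) * ((1 : Multiplicative (ZMod 2)), g3) ≠
      ((1 : Multiplicative (ZMod 2)), g3) * ((1 : Multiplicative (ZMod 2)), g5) := by decide +kernel
  refine hne (φ.symm.injective ?_)
  rw [map_mul, map_mul]
  exact Subtype.ext (h _ _)

set_option maxHeartbeats 2000000 in
/-- The order of the group. -/
theorem card_eq [IsSimpleGroup G] (ht : orderOf t = 2)
    (hP : ∃ P : Sylow 2 G, t ∈ P ∧ ∀ x ∈ P, x * t = t * x) : Nat.card G = 175560 := by
  classical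
  have h16 := card_mod φ hP
  set C := Subgroup.centralizer ({t} : Set G) with hC
  haveI : Fintype C := Fintype.ofFinite C
  have hnc : ¬ ∀ x y : G, x * y = y * x := not_commutative_G φ
  set θ : Fin 4 → G → ℂ := fun k => Cfsg.indFun C (tc φ (tab k)) with hθ
  have hgenC : ∀ k, Cfsg.IsGeneralizedCharacter C (tc φ (tab k)) := fun k =>
    IsGeneralized.comp (isGen_tab k) φ.toMonoidHom
  have hgen : ∀ k, Cfsg.IsGeneralizedCharacter G (θ k) := fun k => IsGeneralized.indFun (hgenC k)
  have hm : ∀ (k : Fin 4) (χ : {x // x ∈ irrFinset G}), ∃ n : ℤ,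
      Cfsg.classInner (θ k) (χ : G → ℂ) = n := fun k χ =>
    IsGeneralized.exists_classInner_eq_int (hgen k)
      (IsIrrCharacter.isGeneralized (mem_irrFinset.1 χ.2))
  choose m hm using hm
  have hd : ∀ χ : {x // x ∈ irrFinset G}, ∃ n : ℕ, 0 < n ∧ (χ : G → ℂ) 1 = n := fun χ =>
    IsIrrCharacter.exists_degree (mem_irrFinset.1 χ.2)
  choose d hd0 hd using hd
  let o : {x // x ∈ irrFinset G} := ⟨fun _ => 1, mem_irrFinset.2 isIrrCharacter_one⟩
  have hcf : ∀ k, Cfsg.IsClassFunction C (tc φ (tab k)) := fun k =>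
    IsGeneralized.isClassFunction (hgenC k)
  have hgram : ∀ j k, ∑ χ, m j χ * m k χ = gram j k := by
    intro j k
    have h := classInner_eq_sum_irr (IsGeneralized.isClassFunction (hgen j)) (θ k)
    rw [show Cfsg.classInner (θ j) (θ k) = tinner (tab j) (tab k) from
      classInner_tc φ ht (tab_zero j) (tab_zero k) (hcf k), tinner_tab,
      ← Finset.sum_attach (irrFinset G), ← Finset.univ_eq_attach] at h
    simp only [hm, map_intCast, ← Int.cast_mul, ← Int.cast_sum, Int.cast_inj] at h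
    exact h.symm
  have hcls : ∀ F : Fin 10 → ℂ, ∑ c : C, F (cls (φ c)) = ∑ i, (csize i : ℂ) * F i := fun F => by
    rw [show ∑ c : C, F (cls (φ c)) = ∑ x : Mdl, F (cls x) from
      φ.toEquiv.sum_comp (fun x => F (cls x))]
    refine (sum_cls F).trans ?_
    simp only [nsmul_eq_mul]
  have hcard : (Nat.card C : ℂ) = 120 := by
    rw [show Nat.card C = 120 from card_centralizer φ, Nat.cast_ofNat]
  have hone : ∀ k, m k o = if k = 0 then 1 else 0 := by
    intro k
    have h := hm k o
    rw [hθ] at h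
    simp only [o] at h
    rw [classInner_indFun _ (IsIrrCharacter.isClassFunction isIrrCharacter_one), classInner_def,
      hcard] at h
    have h2 : ((m k o : ℤ) : ℂ) = tinner (tab k) (fun _ => 1) := by
      rw [← h, tinner, ← hcls (fun i => tab k i * conj (1 : ℂ))]
      rfl
    rw [tinner_tab_one] at h2
    split_ifs with hk
    · rw [if_pos hk] at h2; exact_mod_cast h2
    · rw [if_neg hk] at h2; exact_mod_cast h2
  have hdeg : ∀ k, ∑ χ, m k χ * (d χ : ℤ) = 0 := by
    intro k
    have h1 : θ k 1 = 0 := by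
      rw [hθ]
      simp only
      rw [indFun_one]
      simp [tc, cls_one, tab_zero k 0 (by decide)]
    rw [eq_sum_irr (IsGeneralized.isClassFunction (hgen k)), Finset.sum_apply,
      ← Finset.sum_attach (irrFinset G), ← Finset.univ_eq_attach] at h1
    simp only [Pi.smul_apply, smul_eq_mul, hm, hd] at h1
    exact_mod_cast h1
  have hdo : d o = 1 := by
    have h := hd o
    simp only [o] at h
    exact_mod_cast h.symm
  have hd2 : ∀ χ, χ ≠ o → (2 : ℤ) ≤ d χ := by
    intro χ hχ
    by_contra hlt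
    have h1 : d χ = 1 := by have := hd0 χ; omega
    exact hχ (Subtype.ext (eq_one_of_degree_one hnc (mem_irrFinset.1 χ.2)
      (by rw [hd, h1]; simp)))
  -- the restriction to the model
  set ι : Mdl →* G := C.subtype.comp φ.symm.toMonoidHom with hι
  have hιt : ι z = t := by
    rw [← phi_self φ ht]
    show ((φ.symm (φ ⟨t, self_mem⟩) : C) : G) = t
    rw [φ.symm_apply_apply]
  have hcfχ : ∀ χ : {x // x ∈ irrFinset G}, Cfsg.IsClassFunction G (χ : G → ℂ) := fun χ =>
    IsIrrCharacter.isClassFunction (mem_irrFinset.1 χ.2)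
  have hconjι : ∀ (χ : {x // x ∈ irrFinset G}) {a b : Mdl}, (∃ y, y * a * y⁻¹ = b) →
      (χ : G → ℂ) (ι b) = (χ : G → ℂ) (ι a) := by
    rintro χ a b ⟨y, rfl⟩
    refine (IsClassFunction.apply_eq_of_isConj (hcfχ χ) (isConj_iff.2 ⟨ι y, ?_⟩)).symm
    rw [← map_inv, ← map_mul, ← map_mul]
  set s2 : Mdl := (1, g3) with hs2
  set s7 : Mdl := CfsgLib.J1Order.z * (1, g3) with hs7
  -- the values at `t` and at the class `7`
  set zc : {x // x ∈ irrFinset G} → ℤ :=
    fun χ => m 0 χ + 2 * m 1 χ + 2 * m 2 χ + 4 * m 3 χ with hzc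
  set zs : {x // x ∈ irrFinset G} → ℤ := fun χ => m 0 χ - m 1 χ - m 2 χ + m 3 χ with hzs
  have hr : ∀ (χ : {x // x ∈ irrFinset G}) (k : Fin 4), ((m k χ : ℤ) : ℂ) =
      (120 : ℂ)⁻¹ * ∑ c : C, tab k (cls (φ c)) * conj ((χ : G → ℂ) c) := by
    intro χ k
    rw [← hm k χ, hθ]
    simp only
    rw [classInner_indFun _ (hcfχ χ), classInner_def, hcard]
    rfl
  have hval : ∀ χ : {x // x ∈ irrFinset G}, (χ : G → ℂ) t = zc χ := by
    intro χ
    have h120 : ((zc χ : ℤ) : ℂ) = (120 : ℂ)⁻¹ * ∑ c : C,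
        (if cls (φ c) = 5 then (120 : ℂ) else 0) * conj ((χ : G → ℂ) c) := by
      rw [hzc]
      push_cast
      rw [hr χ, hr χ, hr χ, hr χ]
      simp only [← tab_indicator, add_mul, mul_assoc, Finset.sum_add_distrib, ← Finset.mul_sum]
      ring
    rw [Finset.sum_eq_single (⟨t, self_mem⟩ : C), if_pos ((cls_eq_five_iff _).2 (phi_self φ ht)),
      ← mul_assoc, inv_mul_cancel₀ (by norm_num : (120 : ℂ) ≠ 0), one_mul] at h120
    · have h2 : (χ : G → ℂ) t = conj ((zc χ : ℤ) : ℂ) := by rw [h120, Complex.conj_conj]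
      rw [h2, map_intCast]
    · intro c _ hc
      rw [if_neg, zero_mul]
      intro e
      exact hc (φ.injective (((cls_eq_five_iff _).1 e).trans (phi_self φ ht).symm))
    · exact fun h => absurd (Finset.mem_univ _) h
  have hval7 : ∀ χ : {x // x ∈ irrFinset G}, (χ : G → ℂ) (ι s7) = zs χ := by
    intro χ
    have h7 : ((zs χ : ℤ) : ℂ) = (120 : ℂ)⁻¹ * ∑ c : C,
        (if cls (φ c) = 7 then (6 : ℂ) else 0) * conj ((χ : G → ℂ) c) := by
      rw [hzs]
      push_cast
      rw [hr χ, hr χ, hr χ, hr χ]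
      simp only [← tab_indicator_seven, add_mul, sub_mul, mul_assoc, Finset.sum_add_distrib,
        Finset.sum_sub_distrib, ← Finset.mul_sum]
      ring
    have e : ∀ c : C, (if cls (φ c) = 7 then (6 : ℂ) else 0) * conj ((χ : G → ℂ) c) =
        (fun i => (if i = 7 then (6 : ℂ) else 0) * conj ((χ : G → ℂ) (ι s7))) (cls (φ c)) := by
      intro c
      simp only
      split_ifs with h
      · have h2 := hconjι χ (conj_seven _ h)
        rw [show ι (φ c) = (c : G) by
          show ((φ.symm (φ c) : C) : G) = _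
          rw [φ.symm_apply_apply]] at h2
        rw [h2]
      · rw [zero_mul, zero_mul]
    rw [Finset.sum_congr rfl fun c _ => e c,
      hcls (fun i => (if i = 7 then (6 : ℂ) else 0) * conj ((χ : G → ℂ) (ι s7)))] at h7
    have h8 : ((zs χ : ℤ) : ℂ) = conj ((χ : G → ℂ) (ι s7)) := by
      rw [h7, Finset.sum_eq_single 7 (fun i _ hi => by rw [if_neg hi, zero_mul, mul_zero])
        (fun h => absurd (Finset.mem_univ _) h), if_pos rfl]
      simp [csize]
      ring
    have h2 : (χ : G → ℂ) (ι s7) = conj ((zs χ : ℤ) : ℂ) := by rw [h8, Complex.conj_conj]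
    rw [h2, map_intCast]
  have hinvol : ∀ x : G, x * x = 1 → x ≠ 1 → IsConj t x := fun x h h' =>
    isConj_of_invol φ ht h16 h h'
  -- multiplicities of linear characters
  set F : {x // x ∈ irrFinset G} → Fin 10 → ℂ := fun χ => ![(d χ : ℂ), (zc χ : ℂ),
    conj ((χ : G → ℂ) (ι s2)), 0, 0, (zc χ : ℂ), (zc χ : ℂ), (zs χ : ℂ), 0, 0] with hFdef
  have hmult : ∀ (χ : {x // x ∈ irrFinset G}) (L : LinData),
      ∃ n : ℕ, (L.ord : ℂ) * n = ∑ i, (L.E i : ℂ) * F χ i := by
    intro χ L
    refine L.mult (f := fun v => (χ : G → ℂ) (ι v))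
      (IsCharacter.comp (IsIrrCharacter.isCharacter (mem_irrFinset.1 χ.2)) ι) (F χ) fun v hv => ?_
    have hinv : cls v = 1 ∨ cls v = 5 ∨ cls v = 6 → conj ((χ : G → ℂ) (ι v)) = (zc χ : ℂ) := by
      intro h
      obtain ⟨h1, h2⟩ := invol_cls v h
      have hc := hinvol (ι v) (by rw [← map_mul, h2, map_one]) (fun e => h1
        ((Subtype.val_injective.comp φ.symm.injective) (e.trans (map_one ι).symm)))
      rw [← IsClassFunction.apply_eq_of_isConj (hcfχ χ) hc, hval, map_intCast]
    rcases L.supp v hv with e | e | e | e | e | e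
    · rw [cls_zero v e, map_one, hd, cls_one, map_natCast]
      rfl
    · rw [hinv (Or.inl e), e]; rfl
    · rw [e, hconjι χ (conj_two v e)]; rfl
    · rw [hinv (Or.inr (Or.inl e)), e]; rfl
    · rw [hinv (Or.inr (Or.inr e)), e]; rfl
    · rw [e, hconjι χ (conj_seven v e), ← hs7, hval7, map_intCast]; rfl
  have hV : ∀ χ : {x // x ∈ irrFinset G}, ∃ n : ℕ, (d χ : ℤ) + 7 * zc χ = 8 * n := fun χ => by
    obtain ⟨n, hn⟩ := hmult χ linV
    refine ⟨n, ?_⟩
    simp [linV, hFdef, Fin.sum_univ_succ] at hn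
    have : (((d χ : ℤ) + 7 * zc χ : ℤ) : ℂ) = ((8 * n : ℤ) : ℂ) := by
      push_cast; linear_combination -hn
    exact_mod_cast this
  have hV' : ∀ χ : {x // x ∈ irrFinset G}, ∃ n : ℕ, (d χ : ℤ) - zc χ = 8 * n := fun χ => by
    obtain ⟨n, hn⟩ := hmult χ linV'
    refine ⟨n, ?_⟩
    simp [linV', linV, hFdef, Fin.sum_univ_succ] at hn
    have : (((d χ : ℤ) - zc χ : ℤ) : ℂ) = ((8 * n : ℤ) : ℂ) := by
      push_cast; linear_combination -hn
    exact_mod_cast this
  have hreal : ∀ χ : {x // x ∈ irrFinset G}, ∃ r : ℚ, conj ((χ : G → ℂ) (ι s2)) = (r : ℂ) := fun χ => by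
    obtain ⟨n, hn⟩ := hmult χ linA
    refine ⟨((24 * n : ℤ) - d χ - 7 * zc χ - 8 * zs χ : ℤ) / 8, ?_⟩
    simp [linA, hFdef, Fin.sum_univ_succ] at hn
    push_cast
    linear_combination -(1 / 8 : ℂ) * hn
  choose xr hxr using hreal
  have hA : ∀ χ : {x // x ∈ irrFinset G}, ∃ n : ℕ, 24 * (n : ℚ) = d χ + 7 * zc χ + 8 * xr χ + 8 * zs χ := fun χ => by
    obtain ⟨n, hn⟩ := hmult χ linA
    refine ⟨n, Rat.cast_injective (α := ℂ) ?_⟩
    simp [linA, hFdef, Fin.sum_univ_succ, hxr] at hn
    push_cast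
    linear_combination hn
  have hAω : ∀ χ : {x // x ∈ irrFinset G}, ∃ n : ℕ, 24 * (n : ℚ) = d χ + 7 * zc χ - 4 * xr χ - 4 * zs χ := fun χ => by
    obtain ⟨n, hn⟩ := hmult χ linAω
    refine ⟨n, Rat.cast_injective (α := ℂ) ?_⟩
    simp [linAω, linA, hFdef, Fin.sum_univ_succ, hxr] at hn
    push_cast
    linear_combination hn
  have hAω' : ∀ χ : {x // x ∈ irrFinset G}, ∃ n : ℕ, 24 * (n : ℚ) = d χ - zc χ - 4 * xr χ + 4 * zs χ := fun χ => by
    obtain ⟨n, hn⟩ := hmult χ linAω'
    refine ⟨n, Rat.cast_injective (α := ℂ) ?_⟩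
    simp [linAω', linAω, linA, hFdef, Fin.sum_univ_succ, hxr] at hn
    push_cast
    linear_combination hn
  have hD : ∀ χ : {x // x ∈ irrFinset G}, ∃ n : ℕ, 12 * (n : ℚ) = d χ - 5 * zc χ + 2 * xr χ + 2 * zs χ := fun χ => by
    obtain ⟨n, hn⟩ := hmult χ linD
    refine ⟨n, Rat.cast_injective (α := ℂ) ?_⟩
    simp [linD, hFdef, Fin.sum_univ_succ, hxr] at hn
    push_cast
    linear_combination hn
  -- the values at the elements of order three
  have hxsum : ∀ k, ∑ χ, (m k χ : ℚ) * xr χ = 0 := by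
    intro k
    have h1 : θ k (ι s2) = 0 :=
      indFun_tc_zero φ ht (tab_zero k) (by rw [← map_pow, hs2, g3_pow, map_one])
    rw [eq_sum_irr (IsGeneralized.isClassFunction (hgen k)), Finset.sum_apply,
      ← Finset.sum_attach (irrFinset G), ← Finset.univ_eq_attach] at h1
    have h2 := congrArg conj h1
    simp only [Pi.smul_apply, smul_eq_mul, hm, map_sum, map_mul, map_intCast, hxr, map_zero] at h2
    exact Rat.cast_injective (α := ℂ) (by push_cast; exact h2)
  have hxo : xr o = 1 := by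
    have h := hxr o
    simp only [o, map_one] at h
    exact Rat.cast_injective (α := ℂ) (by rw [← h]; simp)
  -- pairs of involutions
  set K := Nat.card {x : G // IsConj t x} with hK
  have hKG : Nat.card G = 120 * K := by
    have hC : Nat.card (Subgroup.centralizer ({t} : Set G)) = 120 := card_centralizer φ
    rw [hK, card_conj_class, ← hC, Subgroup.card_mul_index]
  set Fp : G → ℕ := fun v =>
    Nat.card {p : G × G // IsConj t p.1 ∧ IsConj t p.2 ∧ p.1 * p.2 = v} with hFp
  have hFf : ∀ v, (Fp v : ℂ) = (K : ℂ) * K / (Nat.card G : ℂ) *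
      ∑ χ ∈ irrFinset G, χ t * χ t * conj (χ v) / χ 1 := fun v => card_class_products t t v
  have hFcf : Cfsg.IsClassFunction G (fun v => (Fp v : ℂ)) := by
    intro g h
    simp only [hFf]
    congr 1
    refine Finset.sum_congr rfl fun χ hχ => ?_
    rw [IsIrrCharacter.isClassFunction (mem_irrFinset.1 hχ) g h]
  have hcount : ∀ c : C, Spec (cls (φ c)) → Fp (c : G) = cnt (cls (φ c)) := by
    intro c hc
    rw [← pairs_eq _ hc]
    have hp : ∀ p : G × G, IsConj t p.1 → IsConj t p.2 → p.1 * p.2 = (c : G) →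
        p.1 ∈ C ∧ p.2 = p.1 * (c : G) := by
      intro p h1 h2 h12
      obtain ⟨a1, -⟩ := coe_invol ht h1
      obtain ⟨a2, -⟩ := coe_invol ht h2
      have e2 : p.2 = p.1 * (c : G) := by rw [← h12, ← mul_assoc, a1, one_mul]
      refine ⟨?_, e2⟩
      refine conj_mem_centralizer φ ht c c⁻¹ ?_ hc ?_
      · rw [Subgroup.coe_inv, ← h12, mul_inv_rev]
        rw [inv_eq_of_mul_eq_one_right a1, inv_eq_of_mul_eq_one_right a2, ← mul_assoc, a1, one_mul]
      · rw [map_inv]
        exact spec_inv _ hc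
    rw [← Fintype.card_subtype, ← Nat.card_eq_fintype_card, hFp]
    refine Nat.card_congr
      { toFun := fun p => ⟨φ ⟨p.1.1, (hp _ p.2.1 p.2.2.1 p.2.2.2).1⟩, ?_, ?_, ?_, ?_⟩
        invFun := fun x => ⟨((φ.symm x.1 : C), (φ.symm x.1 : C) * (c : G)), ?_, ?_, ?_⟩
        left_inv := fun p => ?_
        right_inv := fun x => ?_ }
    · rw [← map_one φ]
      exact fun e => (coe_invol ht p.2.1).2 (congrArg Subtype.val (φ.injective e))
    · rw [← map_mul, ← map_one φ]
      exact congrArg φ (Subtype.ext (coe_invol ht p.2.1).1)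
    · rw [← map_mul, ← map_one φ]
      intro e
      apply (coe_invol ht p.2.2.1).2
      rw [(hp _ p.2.1 p.2.2.1 p.2.2.2).2]
      exact congrArg Subtype.val (φ.injective e)
    · rw [← map_mul, ← map_mul, ← map_one φ]
      refine congrArg φ (Subtype.ext ?_)
      have := (coe_invol ht p.2.2.1).1
      rw [(hp _ p.2.1 p.2.2.1 p.2.2.2).2] at this
      exact this
    · refine hinvol _ ?_ ?_
      · rw [← Subgroup.coe_mul, ← map_mul, x.2.2.1, map_one, Subgroup.coe_one]
      · intro e
        exact x.2.1 (φ.symm.injective (by rw [map_one]; exact Subtype.ext e))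
    · refine hinvol _ ?_ ?_
      · rw [← Subgroup.coe_mul, ← Subgroup.coe_mul]
        refine congrArg Subtype.val (show φ.symm x.1 * c * (φ.symm x.1 * c) = 1 from φ.injective ?_)
        rw [map_mul, map_mul, φ.apply_symm_apply, map_one]
        exact x.2.2.2.2
      · intro e
        refine x.2.2.2.1 (φ.symm.injective ?_)
        rw [map_one, map_mul, φ.symm_apply_apply]
        exact Subtype.ext e
    · show ((φ.symm x.1 : C) : G) * ((φ.symm x.1 : C) * (c : G)) = c
      rw [← mul_assoc, ← Subgroup.coe_mul, ← map_mul, x.2.2.1, map_one, Subgroup.coe_one, one_mul]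
    · refine Subtype.ext (Prod.ext ?_ ?_)
      · simp
      · simp only [MulEquiv.symm_apply_apply]
        exact ((hp _ p.2.1 p.2.2.1 p.2.2.2).2).symm
    · refine Subtype.ext ?_
      simp
  have hS : ∀ k : Fin 4, (Nat.card G : ℚ) * ∑ χ, (m k χ : ℚ) * ((zc χ : ℚ) ^ 2 / (d χ : ℤ)) =
      14400 * (pairsVal k : ℚ) := by
    intro k
    have h1 : Cfsg.classInner (θ k) (fun v => (Fp v : ℂ)) = (pairsVal k : ℂ) := by
      rw [hθ]
      simp only
      rw [classInner_indFun _ hFcf, classInner_def, hcard]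
      have h2 : ∑ c : C, tc φ (tab k) c * conj ((Fp (c : G) : ℂ)) =
          ∑ c : C, (fun i => tab k i * (cnt i : ℂ)) (cls (φ c)) := by
        refine Finset.sum_congr rfl fun c _ => ?_
        show tab k (cls (φ c)) * conj ((Fp (c : G) : ℂ)) = _
        rw [Complex.conj_natCast]
        by_cases hc : Spec (cls (φ c))
        · rw [hcount c hc]
        · simp [tab_zero k _ hc]
      rw [h2, hcls (fun i => tab k i * (cnt i : ℂ)), tab_pairs, inv_mul_cancel_left₀ (by norm_num : (120 : ℂ) ≠ 0)]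
    have hGne : (Nat.card G : ℂ) ≠ 0 := Nat.cast_ne_zero.2 Nat.card_pos.ne'
    have h3 : Cfsg.classInner (θ k) (fun v => (Fp v : ℂ)) = (K : ℂ) * K / (Nat.card G : ℂ) *
        ∑ χ ∈ irrFinset G, Cfsg.classInner (θ k) χ * (χ t * χ t / χ 1) := by
      rw [classInner_def, Finset.sum_congr rfl (g := fun v => θ k v * (Fp v : ℂ)) fun v _ =>
        congrArg (θ k v * ·) (Complex.conj_natCast (Fp v)), Finset.mul_sum, Finset.mul_sum]
      simp only [classInner_def, hFf, Finset.mul_sum, Finset.sum_mul]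
      rw [Finset.sum_comm]
      refine Finset.sum_congr rfl fun χ _ => Finset.sum_congr rfl fun v _ => ?_
      ring
    rw [h1, ← Finset.sum_attach (irrFinset G), ← Finset.univ_eq_attach] at h3
    simp only [hm, hval, hd] at h3
    have h5 : (K : ℂ) * ∑ χ, (m k χ : ℂ) * ((zc χ : ℂ) ^ 2 / (d χ : ℂ)) =
        120 * (pairsVal k : ℂ) := by
      have hK0 : (K : ℂ) ≠ 0 := by
        intro e
        apply hGne
        rw [hKG]
        push_cast
        rw [e, mul_zero]
      rw [hKG] at h3
      push_cast at h3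
      rw [show (K : ℂ) * K / (120 * (K : ℂ)) = (K : ℂ) / 120 by field_simp] at h3
      have e : ∑ χ, (m k χ : ℂ) * ((zc χ : ℂ) ^ 2 / (d χ : ℂ)) =
          ∑ χ, (m k χ : ℂ) * ((zc χ : ℂ) * (zc χ : ℂ) / (d χ : ℂ)) :=
        Finset.sum_congr rfl fun χ _ => by rw [sq]
      rw [e]
      linear_combination -120 * h3
    have h6 : (K : ℚ) * ∑ χ, (m k χ : ℚ) * ((zc χ : ℚ) ^ 2 / (d χ : ℤ)) =
        120 * (pairsVal k : ℚ) := by
      apply Rat.cast_injective (α := ℂ)
      push_cast
      exact h5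
    rw [hKG]
    push_cast at h6 ⊢
    linear_combination 120 * h6
  have hnat : ∀ {n : ℕ} {a : ℚ}, (n : ℚ) = a → 0 ≤ a := fun h => h ▸ Nat.cast_nonneg _
  let D : MultData {x // x ∈ irrFinset G} (Nat.card G) :=
  { o := o
    u := m 0
    a := m 1
    b := m 2
    q := m 3
    d := fun χ => (d χ : ℤ)
    x := xr
    uu := hgram 0 0
    ua := hgram 0 1
    ub := hgram 0 2
    uq := hgram 0 3
    aa := hgram 1 1
    ab := hgram 1 2
    aq := hgram 1 3
    bb := hgram 2 2
    bq := hgram 2 3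
    qq := hgram 3 3
    uo := by rw [hone]; rfl
    ao := by rw [hone]; rfl
    bo := by rw [hone]; rfl
    qo := by rw [hone]; rfl
    d_o := by rw [hdo]; rfl
    d_two := hd2
    ud := hdeg 0
    ad := hdeg 1
    bd := hdeg 2
    qd := hdeg 3
    eq_u := (hS 0).trans (by norm_num [pairsVal])
    eq_a := (hS 1).trans (by norm_num [pairsVal])
    eq_b := (hS 2).trans (by rw [show pairsVal 2 = 4 from rfl]; norm_num)
    eq_q := (hS 3).trans (by rw [show pairsVal 3 = 0 from rfl]; norm_num)
    cong := fun χ => by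
      obtain ⟨n, hn⟩ := hV' χ
      exact ⟨n, hn⟩
    pos := fun χ => by
      obtain ⟨n, hn⟩ := hV χ
      show 0 ≤ (d χ : ℤ) + 7 * zc χ
      omega
    pos' := fun χ => by
      obtain ⟨n, hn⟩ := hV' χ
      show 0 ≤ (d χ : ℤ) - zc χ
      omega
    hN := h16
    sq := fun s => by
      have h : ∑ χ, (d χ : ℤ) * d χ = (Nat.card G : ℤ) := by
        have h := sum_degree_sq (G := G)
        rw [← Finset.sum_attach (irrFinset G), ← Finset.univ_eq_attach] at h
        simp only [hd] at h
        have h' : (((∑ χ, (d χ : ℤ) * d χ : ℤ)) : ℂ) = ((Nat.card G : ℤ) : ℂ) := by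
          push_cast
          rw [← h]
          exact Finset.sum_congr rfl fun χ _ => by rw [sq]
        exact_mod_cast h'
      rw [← h]
      exact Finset.sum_le_univ_sum_of_nonneg fun χ => mul_self_nonneg _
    dvd := fun χ => Int.natCast_dvd_natCast.2
      (IsIrrCharacter.degree_dvd_card (mem_irrFinset.1 χ.2) (hd χ))
    xo := hxo
    wx := by
      simp only [Int.cast_sub, sub_mul, Finset.sum_sub_distrib, hxsum]
      norm_num
    hx := fun χ => by
      obtain ⟨nA, eA⟩ := hA χ
      obtain ⟨nω, eω⟩ := hAω χ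
      obtain ⟨nω', eω'⟩ := hAω' χ
      obtain ⟨nD, eD⟩ := hD χ
      refine ⟨fun h1 h2 h3 => ?_, fun h1 h2 h3 => ?_, fun h1 h2 h3 => ?_⟩
      all_goals
        have e1 : (d χ : ℚ) = ((d χ : ℤ) : ℚ) := (Int.cast_natCast _).symm
        rw [e1, h1, show zc χ = _ from h2, show zs χ = _ from h3] at eA eω eω' eD
        push_cast at eA eω eω' eD
      · have hn : nA ≤ 1 ∧ 12 * nA + 24 * nω = 12 := by
          have h : (((12 * nA + 24 * nω : ℕ)) : ℚ) = ((12 : ℕ) : ℚ) := by push_cast; linarith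
          have h' : 12 * nA + 24 * nω = 12 := by exact_mod_cast h
          omega
        have : nA = 1 := by omega
        rw [this] at eA
        push_cast at eA
        linarith
      · have : (0 : ℚ) ≤ nA := Nat.cast_nonneg _
        have : (0 : ℚ) ≤ nω := Nat.cast_nonneg _
        linarith
      · have : (0 : ℚ) ≤ nD := Nat.cast_nonneg _
        have : (0 : ℚ) ≤ nω' := Nat.cast_nonneg _
        linarith }
  exact D.order_eq

end CfsgLib.J1Order
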