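import Mathlib.Tactic

/-!
# The degree equations for an involution centralizer `C₂ × A₅`
-/

set_option autoImplicit false
set_option maxRecDepth 100000

namespace CfsgLib.J1Order

/-- The search condition in the first configuration. -/
def Good11 (e a : ℤ) : Prop :=
  let s := 1 + e
  let b := -s - a
  let num := s * (a * b - 9 * e)
  let r := 144000 * e * a * b
  let n := r / num
  let d := s * n - 86400 * e
  e ≠ 1 ∧ b ≠ 0 ∧ a * a ≤ b * b ∧ num ≠ 0 ∧ r % num = 0 ∧ n % 16 = 8 ∧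
    2 * (e * e + a * a + b * b) + s * s ≤ 2 * n ∧ d ≠ 0 ∧ (25 * s * e * n) % d = 0 ∧
    0 ≤ s * s - 4 * (25 * s * e * n / d)

instance (e a : ℤ) : Decidable (Good11 e a) := by unfold Good11; infer_instance

theorem search11 : ∀ i : Fin 140, ∀ j : Fin 76, Good11 (8 * (i : ℤ) - 559) (8 * (j : ℤ) - 301) →
    ((i : ℕ), (j : ℕ)) ∈ [(68, 35), (69, 35), (96, 28)] := by decide +kernel

/-- A number strictly between consecutive squares is not a square. -/
theorem not_sq {x c : ℤ} (r : ℤ) (h1 : r * r < c) (h2 : c < (r + 1) * (r + 1)) (hr : 0 ≤ r) :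
    x * x ≠ c := by
  intro h
  subst h
  rcases le_total 0 x with hx | hx
  · have a : r < x := by nlinarith
    have b : x < r + 1 := by nlinarith
    omega
  · have a : x < -r := by nlinarith
    have b : -(r + 1) < x := by nlinarith
    omega

set_option maxHeartbeats 4000000 in
/-- The first configuration. -/
theorem arith11 {N : ℕ} {e a₁ a₂ c₁ c₂ : ℤ} (hN : N % 16 = 8) (he8 : e % 8 = 1) (ha8 : a₁ % 8 = 3)
    (ha8' : a₂ % 8 = 3) (hc8 : c₁ % 8 = 5) (hc8' : c₂ % 8 = 5) (he1 : e ≠ 1)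
    (hsa : a₁ + a₂ = -(1 + e)) (hsc : c₁ + c₂ = 1 + e)
    (hw : (N : ℚ) * (1 + 1 / e - 25 / c₁ - 25 / c₂) = 86400)
    (hA : (N : ℚ) * (9 / a₁ + 9 / a₂ + 25 / c₁ + 25 / c₂) = 57600)
    (hsq : e * e + a₁ * a₁ + a₂ * a₂ + c₁ * c₁ + c₂ * c₂ < N) :
    N = 175560 ∨ (e = -15 ∧ ((c₁ = 21 ∧ c₂ = -35) ∨ (c₁ = -35 ∧ c₂ = 21))) := by
  wlog hle : a₁ * a₁ ≤ a₂ * a₂ generalizing a₁ a₂
  · exact this ha8' ha8 (by linarith) (by rw [← hA]; ring) (by linarith) (le_of_not_ge hle)
  have e0 : e ≠ 0 := by omega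
  have a0 : a₁ ≠ 0 := by omega
  have a0' : a₂ ≠ 0 := by omega
  have c0 : c₁ ≠ 0 := by omega
  have c0' : c₂ ≠ 0 := by omega
  have eQ : (e : ℚ) ≠ 0 := Int.cast_ne_zero.2 e0
  have aQ : (a₁ : ℚ) ≠ 0 := Int.cast_ne_zero.2 a0
  have aQ' : (a₂ : ℚ) ≠ 0 := Int.cast_ne_zero.2 a0'
  have cQ : (c₁ : ℚ) ≠ 0 := Int.cast_ne_zero.2 c0
  have cQ' : (c₂ : ℚ) ≠ 0 := Int.cast_ne_zero.2 c0'
  have hsum : (N : ℚ) * (1 + 1 / e + 9 / a₁ + 9 / a₂) = 144000 := by linear_combination hw + hA
  have hNQ : (0 : ℚ) < N := by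
    have : (0 : ℤ) < (N : ℤ) := by
      nlinarith [mul_self_pos.2 e0, mul_self_nonneg a₁, mul_self_nonneg a₂, mul_self_nonneg c₁,
        mul_self_nonneg c₂]
    exact_mod_cast this
  have hc2 : (1 + e) * (1 + e) ≤ 2 * (c₁ * c₁ + c₂ * c₂) := by
    rw [← hsc]; nlinarith [mul_self_nonneg (c₁ - c₂)]
  -- the degree `e` is bounded
  have heb : -559 ≤ e ∧ e ≤ 560 := by
    by_contra hc
    have he2 : 561 ≤ e ∨ e ≤ -567 := by omega
    have hb2 : 78400 ≤ a₂ * a₂ := by
      rcases he2 with h | h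
      · have : a₁ + a₂ ≤ -562 := by omega
        nlinarith [mul_self_nonneg (a₁ - a₂)]
      · have : 566 ≤ a₁ + a₂ := by omega
        nlinarith [mul_self_nonneg (a₁ - a₂)]
    have hN2 : (551000 : ℤ) ≤ N := by
      rcases he2 with h | h <;> nlinarith [mul_self_nonneg a₁]
    have hNq : (551000 : ℚ) ≤ N := by exact_mod_cast hN2
    have h1 : 1 + 1 / (e : ℚ) + 9 / a₁ + 9 / a₂ = 144000 / N := by
      rw [eq_div_iff hNQ.ne', ← hsum]; ring
    have h2 : 144000 / (N : ℚ) ≤ 144000 / 551000 := by gcongr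
    have h2' : 0 < 144000 / (N : ℚ) := by positivity
    have h3 : |1 / (e : ℚ)| ≤ 1 / 561 := by
      rw [abs_div, abs_one]
      gcongr
      rcases he2 with h | h
      · exact le_abs.2 (Or.inl (by exact_mod_cast h))
      · exact le_abs.2 (Or.inr (by exact_mod_cast (by omega : 561 ≤ -e)))
    have h4 : |9 / (a₂ : ℚ)| ≤ 9 / 280 := by
      rw [abs_div, abs_of_pos (by norm_num : (0 : ℚ) < 9)]
      gcongr
      rcases le_total 0 a₂ with h | h
      · exact le_abs.2 (Or.inl (by exact_mod_cast (by nlinarith : 280 ≤ a₂)))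
      · exact le_abs.2 (Or.inr (by exact_mod_cast (by nlinarith : 280 ≤ -a₂)))
    have h5 : 9 / (a₁ : ℚ) ≤ -1 - 4 / 13 ∨ -1 + 4 / 13 ≤ 9 / (a₁ : ℚ) := by
      rcases (by omega : 3 ≤ a₁ ∨ a₁ = -5 ∨ a₁ = -13 ∨ a₁ ≤ -21) with h | h | h | h
      · right
        have : (0 : ℚ) ≤ 9 / a₁ := div_nonneg (by norm_num) (by exact_mod_cast (by omega : (0 : ℤ) ≤ a₁))
        linarith
      · left; rw [h]; norm_num
      · right; rw [h]; norm_num
      · right
        have h' : (a₁ : ℚ) ≤ -21 := by exact_mod_cast h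
        rw [le_div_iff_of_neg (by linarith)]
        linarith
    rw [abs_le] at h3 h4
    rcases h5 with h5 | h5 <;> linarith
  -- the degree `a₁` is bounded
  have hab : -301 ≤ a₁ ∧ a₁ ≤ 303 := by
    by_contra hc
    have ha2 : (92416 : ℤ) ≤ a₁ * a₁ := by
      rcases (by omega : 304 ≤ a₁ ∨ a₁ ≤ -304) with h | h <;> nlinarith
    have hN2 : (184832 : ℤ) ≤ N := by
      nlinarith [mul_self_nonneg e, mul_self_nonneg c₁, mul_self_nonneg c₂]
    have hNq : (184832 : ℚ) ≤ N := by exact_mod_cast hN2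
    have h1 : 1 + 1 / (e : ℚ) + 9 / a₁ + 9 / a₂ = 144000 / N := by
      rw [eq_div_iff hNQ.ne', ← hsum]; ring
    have h2 : 144000 / (N : ℚ) ≤ 144000 / 184832 := by gcongr
    have hbd : ∀ a : ℤ, 92416 ≤ a * a → |9 / (a : ℚ)| ≤ 9 / 304 := by
      intro a ha
      rw [abs_div, abs_of_pos (by norm_num : (0 : ℚ) < 9)]
      gcongr
      rcases le_total 0 a with h | h
      · exact le_abs.2 (Or.inl (by exact_mod_cast (by nlinarith : 304 ≤ a)))
      · exact le_abs.2 (Or.inr (by exact_mod_cast (by nlinarith : 304 ≤ -a)))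
    have h3 := abs_le.1 (hbd a₁ ha2)
    have h4 := abs_le.1 (hbd a₂ (ha2.trans hle))
    have h5 : -(1 / 7) ≤ 1 / (e : ℚ) := by
      rcases (by omega : 0 < e ∨ e ≤ -7) with h | h
      · have : (0 : ℚ) ≤ 1 / e := div_nonneg zero_le_one (by exact_mod_cast h.le)
        linarith
      · have h' : (e : ℚ) ≤ -7 := by exact_mod_cast h
        rw [le_div_iff_of_neg (by linarith)]
        linarith
    linarith
  -- the search
  set s := 1 + e with hs
  have hb : a₂ = -s - a₁ := by omega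
  have k1 : (N : ℤ) * (s * (a₁ * a₂ - 9 * e)) = 144000 * e * a₁ * a₂ := by
    have h : ((N : ℤ) * (s * (a₁ * a₂ - 9 * e)) : ℚ) = (144000 * e * a₁ * a₂ : ℤ) := by
      have h' := hsum
      field_simp at h'
      have hsa' : (a₁ : ℚ) + a₂ = -(1 + e) := by exact_mod_cast hsa
      rw [hs]
      push_cast
      linear_combination h' - 9 * (N : ℚ) * e * hsa'
    exact_mod_cast h
  have k2 : (c₁ * c₂) * (s * N - 86400 * e) = 25 * s * e * N := by
    have h : ((c₁ * c₂) * (s * N - 86400 * e) : ℚ) = (25 * s * e * N : ℤ) := by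
      have h' := hw
      field_simp at h'
      have hsc' : (c₁ : ℚ) + c₂ = 1 + e := by exact_mod_cast hsc
      rw [hs]
      push_cast
      linear_combination h' + 25 * (N : ℚ) * e * hsc'
    rw [hs] at h ⊢
    refine (Int.cast_inj (α := ℚ)).1 ?_
    push_cast at h ⊢
    linear_combination h
  have hN0 : (0 : ℤ) < N := by exact_mod_cast hNQ
  have hnum : s * (a₁ * a₂ - 9 * e) ≠ 0 := by
    intro h; rw [h, mul_zero] at k1
    exact absurd k1.symm (by simp [e0, a0, a0'])
  have hd : s * (N : ℤ) - 86400 * e ≠ 0 := by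
    intro h
    rw [h, mul_zero] at k2
    have : s = 0 := by
      rcases mul_eq_zero.1 k2.symm with h' | h'
      · rcases mul_eq_zero.1 h' with h'' | h''
        · omega
        · exact absurd h'' e0
      · omega
    exact hnum (by rw [this, zero_mul])
  have hdivN : 144000 * e * a₁ * a₂ / (s * (a₁ * a₂ - 9 * e)) = N := by
    rw [← k1, Int.mul_ediv_cancel _ hnum]
  have hdivK : 25 * s * e * (N : ℤ) / (s * N - 86400 * e) = c₁ * c₂ := by
    rw [← k2, Int.mul_ediv_cancel _ hd]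
  obtain ⟨i, hi⟩ : ∃ i : Fin 140, 8 * (i : ℤ) - 559 = e :=
    ⟨⟨((e + 559) / 8).toNat, by omega⟩, by simp only; omega⟩
  obtain ⟨j, hj⟩ : ∃ j : Fin 76, 8 * (j : ℤ) - 301 = a₁ :=
    ⟨⟨((a₁ + 301) / 8).toNat, by omega⟩, by simp only; omega⟩
  have hg : Good11 e a₁ := by
    simp only [Good11]
    rw [← hs, ← hb, hdivN, hdivK]
    refine ⟨he1, a0', hle, hnum, ?_, ?_, ?_, hd, ?_, ?_⟩
    · rw [← k1, Int.mul_emod_left]
    · omega
    · linarith
    · rw [← k2, Int.mul_emod_left]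
    · rw [← hsc]; nlinarith [mul_self_nonneg (c₁ - c₂)]
  have hmem := search11 i j (by rwa [hi, hj])
  simp only [List.mem_cons, List.not_mem_nil, or_false, Prod.mk.injEq] at hmem
  rcases hmem with ⟨h1, h2⟩ | ⟨h1, h2⟩ | ⟨h1, h2⟩
  · have e1 : e = -15 := by omega
    have e2 : a₁ = -21 := by omega
    have e3 : a₂ = 35 := by omega
    subst e1 e2 e3
    have hN' : (N : ℤ) = 189000 := by norm_num [hs] at k1; omega
    right
    refine ⟨rfl, ?_⟩
    rw [hs, hN'] at k2
    norm_num at k2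
    have hc : c₁ * c₂ = -735 := by omega
    have hd2 : (c₁ - c₂) * (c₁ - c₂) = 56 * 56 := by nlinarith
    rcases mul_self_eq_mul_self_iff.1 hd2 with h | h <;> omega
  · have e1 : e = -7 := by omega
    have e2 : a₁ = -21 := by omega
    have e3 : a₂ = 27 := by omega
    subst e1 e2 e3
    have hN' : (N : ℤ) = 189000 := by norm_num [hs] at k1; omega
    rw [hs, hN'] at k2
    norm_num at k2
    have hc : c₁ * c₂ = -375 := by omega
    exact absurd (show (c₁ - c₂) * (c₁ - c₂) = 1536 by nlinarith)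
      (not_sq 39 (by norm_num) (by norm_num) (by norm_num))
  · left
    have e1 : e = 209 := by omega
    have e2 : a₁ = -77 := by omega
    have e3 : a₂ = -133 := by omega
    subst e1 e2 e3
    norm_num [hs] at k1
    omega

/-- The search condition in the second configuration. -/
def Good10 (B Q : ℤ) : Prop :=
  let S := 1 - B - Q
  let num := Q * S * (B - 25) - 4 * B * (1 - B)
  let r := 86400 * B * Q * S
  let n := r / num
  (5 ≤ B ∨ B ≤ -35) ∧ (2 ≤ Q ∨ Q ≤ -14) ∧ (2 ≤ S ∨ S ≤ -14) ∧ Q * Q ≤ S * S ∧ num ≠ 0 ∧ r % num = 0 ∧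
    n % 16 = 8 ∧ 1 + B * B + Q * Q + S * S ≤ n ∧ n % B = 0 ∧ n % Q = 0 ∧ n % S = 0 ∧
    (Q = S ∨ 0 ≤ Q * Q + 7 * Q * S + S * S)

instance (B Q : ℤ) : Decidable (Good10 B Q) := by unfold Good10; infer_instance

/-- The survivors of the second search: `(B, Q, N, r)` with `r` a root bound. -/
theorem search10 : ∀ i : Fin 92, ∀ j : Fin 152, Good10 (8 * (i : ℤ) - 363) (8 * (j : ℤ) - 606) →
    (8 * (i : ℤ) - 363, 8 * (j : ℤ) - 606) ∈ ([(-115, 58), (-99, 10), (-75, 10), (-35, 18),
      (29, -14), (45, -22), (93, -30), (101, 10), (125, -62), (125, -14), (125, 10)] :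
        List (ℤ × ℤ)) := by decide +kernel

set_option maxHeartbeats 4000000 in
/-- The second configuration. -/
theorem arith10 {N : ℕ} {A B P Q R S : ℤ} (hN : N % 16 = 8)
    (hB8 : B % 8 = 5) (hQ8 : Q % 8 = 2) (hS8 : S % 8 = 2) (hA0 : A ≠ 0) (hP0 : P ≠ 0) (hR0 : R ≠ 0)
    (hBp : 5 ≤ B ∨ B ≤ -35) (hQp : 2 ≤ Q ∨ Q ≤ -14) (hSp : 2 ≤ S ∨ S ≤ -14)
    (h1 : 1 - B - Q - S = 0) (h2 : A + B + P + Q = 0) (h3 : A + B + R + S = 0)
    (hw : (N : ℚ) * (1 - 25 / B - 4 / Q - 4 / S) = 86400)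
    (hA : (N : ℚ) * (36 / A + 25 / B + 9 / P + 4 / Q) = 57600)
    (hA' : (N : ℚ) * (36 / A + 25 / B + 9 / R + 4 / S) = 57600)
    (hdB : B ∣ N) (hdQ : Q ∣ N) (hdS : S ∣ N)
    (hsq : B * B + Q * Q + S * S < N) : False := by
  wlog hle : Q * Q ≤ S * S generalizing P Q R S
  · exact this hS8 hQ8 hR0 hP0 hSp hQp (by linarith) h3 h2 (by rw [← hw]; ring) hA' hA hdS hdQ
      (by linarith) (le_of_not_ge hle)
  have B0 : B ≠ 0 := by omega
  have Q0 : Q ≠ 0 := by omega
  have S0 : S ≠ 0 := by omega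
  have BQ : (B : ℚ) ≠ 0 := Int.cast_ne_zero.2 B0
  have QQ : (Q : ℚ) ≠ 0 := Int.cast_ne_zero.2 Q0
  have SQ : (S : ℚ) ≠ 0 := Int.cast_ne_zero.2 S0
  have AQ : (A : ℚ) ≠ 0 := Int.cast_ne_zero.2 hA0
  have PQ : (P : ℚ) ≠ 0 := Int.cast_ne_zero.2 hP0
  have RQ : (R : ℚ) ≠ 0 := Int.cast_ne_zero.2 hR0
  have hN0 : (0 : ℤ) < N := by
    nlinarith [mul_self_nonneg B, mul_self_nonneg Q, mul_self_nonneg S]
  have hNQ : (0 : ℚ) < N := by exact_mod_cast hN0
  have hu : 1 - 25 / (B : ℚ) - 4 / Q - 4 / S = 86400 / N := by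
    rw [eq_div_iff hNQ.ne', ← hw]; ring
  have hu0 : 0 < 86400 / (N : ℚ) := by positivity
  have hlow : ∀ (x : ℤ) (m c : ℚ), 0 ≤ c → 0 < m → (m ≤ x ∨ (x : ℚ) ≤ -m) →
      -(c / m) ≤ c / x ∧ c / x ≤ c / m := by
    intro x m c hc hm h
    rw [← abs_le, abs_div, abs_of_nonneg hc]
    gcongr
    rcases h with h | h
    · exact le_abs.2 (Or.inl h)
    · exact le_abs.2 (Or.inr (by linarith))
  have hBb : -363 ≤ B ∧ B ≤ 365 := by
    by_contra hc
    have hB2 : 366 ≤ B ∨ B ≤ -364 := by omega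
    have bB := hlow B 364 25 (by norm_num) (by norm_num)
      (hB2.imp (fun h => by exact_mod_cast (by omega : (364 : ℤ) ≤ B)) (fun h => by exact_mod_cast h))
    have hS2 : 182 ≤ S ∨ S ≤ -182 := by
      by_contra h
      have hS' : -182 < S ∧ S < 182 := by omega
      have hQ' : S * S < 182 * 182 := by nlinarith
      have : -182 < Q ∧ Q < 182 := by constructor <;> nlinarith
      omega
    have bS := hlow S 182 4 (by norm_num) (by norm_num)
      (hS2.imp (fun h => by exact_mod_cast h) (fun h => by exact_mod_cast h))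
    rcases (by omega : Q = 2 ∨ 10 ≤ Q ∨ Q ≤ -10) with hq | hq
    · rw [hq] at hu
      push_cast at hu
      linarith
    · have bQ := hlow Q 10 4 (by norm_num) (by norm_num)
        (hq.imp (fun h => by exact_mod_cast h) (fun h => by exact_mod_cast h))
      have hN2 : (198000 : ℤ) ≤ N := by
        have hBB : 132496 ≤ B * B := by rcases hB2 with h | h <;> nlinarith
        have hQS : (1 - B) * (1 - B) ≤ 2 * (Q * Q + S * S) := by
          rw [show 1 - B = Q + S by omega]; nlinarith [mul_self_nonneg (Q - S)]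
        rcases hB2 with h | h <;> nlinarith
      have hNq : (198000 : ℚ) ≤ N := by exact_mod_cast hN2
      have h2 : 86400 / (N : ℚ) ≤ 86400 / 198000 := by gcongr
      linarith
  have hQb : -606 ≤ Q ∧ Q ≤ 602 := by
    by_contra hc
    have hQ2 : 603 ≤ Q ∨ Q ≤ -603 := by omega
    have hQQ : 363609 ≤ Q * Q := by rcases hQ2 with h | h <;> nlinarith
    have bQ := hlow Q 603 4 (by norm_num) (by norm_num)
      (hQ2.imp (fun h => by exact_mod_cast h) (fun h => by exact_mod_cast h))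
    have hS2 : 603 ≤ S ∨ S ≤ -603 := by
      by_contra h
      have hS' : -603 < S ∧ S < 603 := by omega
      have : S * S < 363609 := by nlinarith
      linarith
    have bS := hlow S 603 4 (by norm_num) (by norm_num)
      (hS2.imp (fun h => by exact_mod_cast h) (fun h => by exact_mod_cast h))
    rcases (by omega : (B = 5 ∨ B = 13 ∨ B = 21) ∨ (29 ≤ B ∨ B ≤ -29)) with hb | hb
    · rcases hb with rfl | rfl | rfl <;> push_cast at hu <;> linarith
    · have bB := hlow B 29 25 (by norm_num) (by norm_num)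
        (hb.imp (fun h => by exact_mod_cast h) (fun h => by exact_mod_cast h))
      have hN2 : (727218 : ℤ) ≤ N := by nlinarith [mul_self_nonneg B]
      have hNq : (727218 : ℚ) ≤ N := by exact_mod_cast hN2
      have h2 : 86400 / (N : ℚ) ≤ 86400 / 727218 := by gcongr
      linarith
  have hS : S = 1 - B - Q := by omega
  have k1 : (N : ℤ) * (Q * S * (B - 25) - 4 * B * (1 - B)) = 86400 * B * Q * S := by
    have h : ((N : ℤ) * (Q * S * (B - 25) - 4 * B * (1 - B)) : ℚ) = (86400 * B * Q * S : ℤ) := by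
      have h' := hw
      field_simp at h'
      have h1' : (1 : ℚ) - B - Q - S = 0 := by exact_mod_cast h1
      push_cast
      linear_combination h' - 4 * (N : ℚ) * B * h1'
    exact_mod_cast h
  have hnum : Q * S * (B - 25) - 4 * B * (1 - B) ≠ 0 := by
    intro h; rw [h, mul_zero] at k1
    exact absurd k1.symm (by simp [B0, Q0, S0])
  -- the difference of the last two equations
  have k2 : Q = S ∨ 9 * Q * S = 4 * P * R := by
    have hd : (9 : ℚ) / P + 4 / Q = 9 / R + 4 / S := by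
      have := mul_left_cancel₀ hNQ.ne' (hA.trans hA'.symm)
      linarith
    field_simp at hd
    have hz : (((Q - S) * (9 * Q * S - 4 * P * R) : ℤ) : ℚ) = 0 := by
      have hPR : (R : ℚ) - P = Q - S := by exact_mod_cast (by omega : R - P = Q - S)
      push_cast
      linear_combination hd - 9 * (Q : ℚ) * S * hPR
    rcases mul_eq_zero.1 (Int.cast_eq_zero.1 hz) with h | h
    · left; omega
    · right; omega
  have k3 : Q ≠ S → (2 * P + Q - S) * (2 * P + Q - S) = Q * Q + 7 * Q * S + S * S := by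
    intro hne
    have h := k2.resolve_left hne
    have : R = P + Q - S := by omega
    subst this
    linear_combination -h
  have k4 : ∀ T : ℤ, T = -B - Q →
      (2 * (57600 * B * Q - N * (25 * Q + 4 * B)) * P +
        (27 * N * B * Q - (57600 * B * Q - N * (25 * Q + 4 * B)) * T)) *
      (2 * (57600 * B * Q - N * (25 * Q + 4 * B)) * P +
        (27 * N * B * Q - (57600 * B * Q - N * (25 * Q + 4 * B)) * T)) =
      (27 * N * B * Q - (57600 * B * Q - N * (25 * Q + 4 * B)) * T) *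
        (27 * N * B * Q - (57600 * B * Q - N * (25 * Q + 4 * B)) * T) -
      36 * (57600 * B * Q - N * (25 * Q + 4 * B)) * (N * B * Q * T) := by
    intro T hT
    have hAT : A = T - P := by omega
    have h' := hA
    field_simp at h'
    have hq : ((N : ℤ) * (36 * B * P * Q + 25 * A * P * Q + 9 * A * B * Q + 4 * A * B * P) : ℚ) =
        (57600 * A * B * P * Q : ℤ) := by
      push_cast
      linear_combination h'
    have hz : (N : ℤ) * (36 * B * P * Q + 25 * A * P * Q + 9 * A * B * Q + 4 * A * B * P) =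
        57600 * A * B * P * Q := by exact_mod_cast hq
    subst hAT
    linear_combination 4 * (57600 * B * Q - N * (25 * Q + 4 * B)) * hz
  obtain ⟨i, hi⟩ : ∃ i : Fin 92, 8 * (i : ℤ) - 363 = B :=
    ⟨⟨((B + 363) / 8).toNat, by omega⟩, by simp only; omega⟩
  obtain ⟨j, hj⟩ : ∃ j : Fin 152, 8 * (j : ℤ) - 606 = Q :=
    ⟨⟨((Q + 606) / 8).toNat, by omega⟩, by simp only; omega⟩
  have hdivN : 86400 * B * Q * S / (Q * S * (B - 25) - 4 * B * (1 - B)) = N := by
    rw [← k1, Int.mul_ediv_cancel _ hnum]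
  have hg : Good10 B Q := by
    simp only [Good10]
    rw [← hS, hdivN]
    refine ⟨hBp, hQp, hSp, hle, hnum, ?_, by omega, by linarith, Int.emod_eq_zero_of_dvd hdB,
      Int.emod_eq_zero_of_dvd hdQ, Int.emod_eq_zero_of_dvd hdS, ?_⟩
    · rw [← k1, Int.mul_emod_left]
    · by_cases hne : Q = S
      · exact Or.inl hne
      · exact Or.inr (k3 hne ▸ mul_self_nonneg _)
  have hmem := search10 i j (by rwa [hi, hj])
  rw [hi, hj] at hmem
  have k5 := k4 (-B - Q) rfl
  simp only [List.mem_cons, List.not_mem_nil, or_false, Prod.mk.injEq] at hmem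
  subst hS
  rcases hmem with ⟨rfl, rfl⟩ | ⟨rfl, rfl⟩ | ⟨rfl, rfl⟩ | ⟨rfl, rfl⟩ | ⟨rfl, rfl⟩ | ⟨rfl, rfl⟩ |
    ⟨rfl, rfl⟩ | ⟨rfl, rfl⟩ | ⟨rfl, rfl⟩ | ⟨rfl, rfl⟩ | ⟨rfl, rfl⟩
  · have hN' : (N : ℤ) = 80040 := by norm_num at k1; omega
    rw [hN'] at k5
    norm_num at k5
    nlinarith [k5, mul_self_nonneg (2 * (-463431600 : ℤ) * P + (12001197600))]
  · have h := k3 (by norm_num)
    norm_num at h
    exact not_sq 120 (by norm_num) (by norm_num) (by norm_num) h
  · have h := k3 (by norm_num)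
    norm_num at h
    exact not_sq 95 (by norm_num) (by norm_num) (by norm_num) h
  · have hN' : (N : ℤ) = 68040 := by norm_num at k1; omega
    rw [hN'] at k5
    norm_num at k5
    nlinarith [k5, mul_self_nonneg (2 * (-57380400 : ℤ) * P + (-181893600))]
  · have hN' : (N : ℤ) = 121800 := by norm_num at k1; omega
    rw [hN'] at k5
    norm_num at k5
    exact not_sq 1202938533 (by norm_num) (by norm_num) (by norm_num) k5
  · have hN' : (N : ℤ) = 106920 := by norm_num at k1; omega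
    rw [hN'] at k5
    norm_num at k5
    exact not_sq 3486517496 (by norm_num) (by norm_num) (by norm_num) k5
  · have h := k3 (by norm_num)
    norm_num at h
    exact not_sq 133 (by norm_num) (by norm_num) (by norm_num) h
  · have h := k3 (by norm_num)
    norm_num at h
    exact not_sq 67 (by norm_num) (by norm_num) (by norm_num) h
  · have hN' : (N : ℤ) = 93000 := by norm_num at k1; omega
    rw [hN'] at k5
    norm_num at k5
    exact not_sq 47819004757 (by norm_num) (by norm_num) (by norm_num) k5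
  · have h := k3 (by norm_num)
    norm_num at h
    exact not_sq 151 (by norm_num) (by norm_num) (by norm_num) h
  · have h := k3 (by norm_num)
    norm_num at h
    exact not_sq 93 (by norm_num) (by norm_num) (by norm_num) h

end CfsgLib.J1Order
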