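import Cfsg.Agent.J1Order.Model
import Cfsg.Agent.Char.Orthogonality

/-!
# Functions on an involution centralizer `C₂ × A₅` supported on the special classes
-/

set_option autoImplicit false
set_option linter.style.haveILetI false

namespace CfsgLib.J1Order

open CfsgLib.Char Finset
open scoped ComplexConjugate

universe u

variable {G : Type u} [Group G] [Fintype G] [DecidableEq G] {t : G}

/-- A function on the centralizer given by a table on the classes. -/
def tc (φ : Subgroup.centralizer ({t} : Set G) ≃* Mdl) (T : Fin 10 → ℂ) :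
    Subgroup.centralizer ({t} : Set G) → ℂ :=
  fun c => T (cls (φ c))

variable (φ : Subgroup.centralizer ({t} : Set G) ≃* Mdl)

omit [Fintype G] [DecidableEq G] in
theorem self_mem : t ∈ Subgroup.centralizer ({t} : Set G) :=
  Subgroup.mem_centralizer_singleton_iff.2 rfl

omit [Fintype G] [DecidableEq G] in
theorem phi_self (ht : orderOf t = 2) : φ ⟨t, self_mem⟩ = z := by
  refine central_involution (fun y => ?_) ?_ ?_
  · obtain ⟨c, rfl⟩ := φ.surjective y
    rw [← map_mul, ← map_mul]
    refine congrArg φ (Subtype.ext ?_)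
    exact (Subgroup.mem_centralizer_singleton_iff.1 c.2).symm
  · rw [← map_mul, ← map_one φ]
    refine congrArg φ (Subtype.ext ?_)
    show t * t = 1
    rw [← sq, ← ht, pow_orderOf_eq_one]
  · rw [← map_one φ]
    intro e
    have : t = 1 := congrArg Subtype.val (φ.injective e)
    rw [this, orderOf_one] at ht
    exact absurd ht (by norm_num)

omit [Fintype G] [DecidableEq G] in
theorem pow_coe (ht : orderOf t = 2) (c : Subgroup.centralizer ({t} : Set G))
    (hc : Spec (cls (φ c))) : (c : G) ^ 15 = t := by
  have h : c ^ 15 = ⟨t, self_mem⟩ := φ.injective <| by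
    rw [map_pow, pow_spec _ hc, phi_self φ ht]
  rw [← Subgroup.coe_pow, h]

omit [Fintype G] [DecidableEq G] in
theorem conj_mem_centralizer (ht : orderOf t = 2) {x : G}
    (c d : Subgroup.centralizer ({t} : Set G)) (hxd : x * (c : G) * x⁻¹ = d)
    (hc : Spec (cls (φ c))) (hd : Spec (cls (φ d))) :
    x ∈ Subgroup.centralizer ({t} : Set G) := by
  have h : x * t * x⁻¹ = t := by
    rw [← pow_coe φ ht c hc, ← conj_pow, hxd, pow_coe φ ht d hd, pow_coe φ ht c hc]
  rw [Subgroup.mem_centralizer_singleton_iff]
  calc x * t = x * t * x⁻¹ * x := by group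
    _ = t * x := by rw [h]

omit [DecidableEq G] in
theorem indFun_tc (ht : orderOf t = 2) {T : Fin 10 → ℂ} (h0 : ∀ i, ¬ Spec i → T i = 0)
    (hcf : Cfsg.IsClassFunction (Subgroup.centralizer ({t} : Set G)) (tc φ T))
    (c : Subgroup.centralizer ({t} : Set G)) (hc : Spec (cls (φ c))) :
    Cfsg.indFun (Subgroup.centralizer ({t} : Set G)) (tc φ T) (c : G) = tc φ T c := by
  classical
  have hterm : ∀ x : G, Cfsg.extendByZero (Subgroup.centralizer ({t} : Set G)) (tc φ T) (x⁻¹ * c * x) =
      if x ∈ (Subgroup.centralizer ({t} : Set G)) then tc φ T c else 0 := fun x => by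
    rw [extendByZero_eq]
    by_cases hm : x⁻¹ * (c : G) * x ∈ (Subgroup.centralizer ({t} : Set G))
    · rw [dif_pos hm]
      by_cases hx : x ∈ (Subgroup.centralizer ({t} : Set G))
      · rw [if_pos hx]
        have h := hcf c ⟨x, hx⟩⁻¹
        rw [inv_inv] at h
        rw [← h]
        rfl
      · rw [if_neg hx]
        by_contra hne
        refine hx (conj_mem_centralizer φ ht ⟨x⁻¹ * c * x, hm⟩ c ?_ ?_ hc)
        · show x * (x⁻¹ * c * x) * x⁻¹ = c
          group
        · by_contra hs
          exact hne (h0 _ hs)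
    · rw [dif_neg hm]
      by_cases hx : x ∈ (Subgroup.centralizer ({t} : Set G))
      · exact absurd ((Subgroup.centralizer ({t} : Set G)).mul_mem ((Subgroup.centralizer ({t} : Set G)).mul_mem ((Subgroup.centralizer ({t} : Set G)).inv_mem hx) c.2) hx) hm
      · rw [if_neg hx]
  rw [indFun_def, Finset.sum_congr rfl fun x _ => hterm x, ← Finset.sum_filter, Finset.sum_const,
    nsmul_eq_mul]
  have hcard : (univ.filter fun x : G => x ∈ (Subgroup.centralizer ({t} : Set G))).card = Nat.card (Subgroup.centralizer ({t} : Set G)) := by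
    rw [Nat.card_eq_fintype_card, Fintype.card_subtype]
  rw [hcard]
  exact inv_mul_cancel_left₀ (Nat.cast_ne_zero.2 Nat.card_pos.ne') _

omit [DecidableEq G] in
/-- An element of `C` whose fifteenth power is trivial is not conjugate to a special element. -/
theorem indFun_tc_zero (ht : orderOf t = 2) {T : Fin 10 → ℂ} (h0 : ∀ i, ¬ Spec i → T i = 0)
    {g : G} (hg : g ^ 15 = 1) :
    Cfsg.indFun (Subgroup.centralizer ({t} : Set G)) (tc φ T) g = 0 := by
  classical
  rw [indFun_def, Finset.sum_eq_zero fun x _ => ?_, mul_zero]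
  rw [extendByZero_eq]
  split_ifs with hm
  · refine h0 _ fun hs => ?_
    have h := pow_coe φ ht ⟨x⁻¹ * g * x, hm⟩ hs
    have e : (x⁻¹ * g * x) ^ 15 = x⁻¹ * g ^ 15 * x := by
      have := conj_pow (i := 15) (a := x⁻¹) (b := g)
      rwa [inv_inv] at this
    rw [e, hg, mul_one, inv_mul_cancel] at h
    rw [← h, orderOf_one] at ht
    exact absurd ht (by norm_num)
  · rfl

omit [Fintype G] [DecidableEq G] in
theorem card_centralizer (φ : Subgroup.centralizer ({t} : Set G) ≃* Mdl) :
    Nat.card (Subgroup.centralizer ({t} : Set G)) = 120 := by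
  rw [Nat.card_congr φ.toEquiv, card_mdl]

/-- The inner product of two tables. -/
noncomputable def tinner (T S : Fin 10 → ℂ) : ℂ :=
  (120 : ℂ)⁻¹ * ∑ i, (csize i : ℂ) * (T i * conj (S i))

/-- The inner product of induced supported functions is computed in the centralizer. -/
theorem classInner_tc (ht : orderOf t = 2) {T S : Fin 10 → ℂ} (hT : ∀ i, ¬ Spec i → T i = 0)
    (hS : ∀ i, ¬ Spec i → S i = 0)
    (hScf : Cfsg.IsClassFunction (Subgroup.centralizer ({t} : Set G)) (tc φ S)) :
    Cfsg.classInner (Cfsg.indFun (Subgroup.centralizer ({t} : Set G)) (tc φ T))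
      (Cfsg.indFun (Subgroup.centralizer ({t} : Set G)) (tc φ S)) = tinner T S := by
  classical
  haveI : Fintype (Subgroup.centralizer ({t} : Set G)) := Fintype.ofFinite (Subgroup.centralizer ({t} : Set G))
  rw [classInner_indFun _ (isClassFunction_indFun _ _), classInner_def, tinner,
    show Nat.card (Subgroup.centralizer ({t} : Set G)) = 120 from card_centralizer φ, Nat.cast_ofNat]
  congr 1
  rw [Finset.sum_congr rfl (g := fun c : (Subgroup.centralizer ({t} : Set G)) => T (cls (φ c)) * conj (S (cls (φ c)))) fun c _ => ?_]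
  · rw [show ∑ c, T (cls (φ c)) * conj (S (cls (φ c))) = ∑ x : Mdl, T (cls x) * conj (S (cls x)) from
      φ.toEquiv.sum_comp (fun x => T (cls x) * conj (S (cls x)))]
    refine (sum_cls (fun i => T i * conj (S i))).trans ?_
    simp only [nsmul_eq_mul]
  · show T (cls (φ c)) * conj (Cfsg.indFun (Subgroup.centralizer ({t} : Set G)) (tc φ S) (c : G)) = _
    by_cases hc : Spec (cls (φ c))
    · rw [indFun_tc φ ht hS hScf c hc]
      rfl
    · rw [hT _ hc, zero_mul, zero_mul]

end CfsgLib.J1Order
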