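import Cfsg.Agent.Char.Induction
import Cfsg.Agent.Char.Generalized
import Mathlib.GroupTheory.SpecificGroups.Alternating
import Mathlib.RingTheory.RootsOfUnity.Complex

/-!
# The group `C₂ × A₅` and generalized characters supported on its special classes

The classes are numbered `0..9`: first those inside `A₅` (identity, involutions, elements of order 3,
two classes of order 5), then their translates by the central involution.  The special classes are
`5, 7, 8, 9`, those whose 2-part is the central involution.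
-/

set_option autoImplicit false
set_option maxRecDepth 100000

namespace CfsgLib.J1Order

open CfsgLib.Char
open scoped ComplexConjugate

/-- `A₅`. -/
abbrev Alt : Type := ↥(alternatingGroup (Fin 5))

/-- The model of the centralizer. -/
abbrev Mdl : Type := Multiplicative (ZMod 2) × alternatingGroup (Fin 5)

/-- A five-cycle. -/
def g5 : Alt := ⟨finRotate 5, Equiv.Perm.mem_alternatingGroup.2 (by decide +kernel)⟩

/-- A three-cycle. -/
def g3 : Alt := ⟨Equiv.swap 2 3 * Equiv.swap 3 4, Equiv.Perm.mem_alternatingGroup.2 (by decide +kernel)⟩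

/-- The central involution. -/
def z : Mdl := (Multiplicative.ofAdd 1, 1)

/-- Conjugate to the five-cycle. -/
def isA (u : Alt) : Bool := decide (∃ y : Alt, y * g5 * y⁻¹ = u)

/-- The class of an element of `A₅`. -/
def base (u : Alt) : Fin 5 :=
  if u = 1 then 0 else if u * u = 1 then 1 else if u * u * u = 1 then 2
  else if isA u then 3 else 4

/-- The number of the class. -/
def cls (v : Mdl) : Fin 10 :=
  if v.1 = 1 then (base v.2).castLE (by norm_num) else (base v.2).natAdd 5

/-- The special classes. -/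
def Spec (i : Fin 10) : Prop := i = 5 ∨ i = 7 ∨ i = 8 ∨ i = 9

instance : DecidablePred Spec := fun i => inferInstanceAs (Decidable (i = 5 ∨ i = 7 ∨ i = 8 ∨ i = 9))

/-- The class sizes. -/
def csize : Fin 10 → ℕ := ![1, 15, 20, 12, 12, 1, 15, 20, 12, 12]

theorem card_mdl : Nat.card Mdl = 120 := by
  rw [Nat.card_eq_fintype_card]
  decide +kernel

theorem card_cls : ∀ i : Fin 10, (Finset.univ.filter fun x : Mdl => cls x = i).card = csize i := by
  decide +kernel

theorem sum_cls {A : Type*} [AddCommMonoid A] (F : Fin 10 → A) :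
    ∑ x : Mdl, F (cls x) = ∑ i, csize i • F i := by
  rw [← Finset.sum_fiberwise_of_maps_to (g := cls) (t := Finset.univ) (fun x _ => Finset.mem_univ _)]
  refine Finset.sum_congr rfl fun i _ => ?_
  rw [← card_cls i, ← Finset.sum_const]
  exact Finset.sum_congr rfl fun x hx => by rw [(Finset.mem_filter.1 hx).2]

theorem cls_eq_five_iff : ∀ x : Mdl, cls x = 5 ↔ x = z := by decide +kernel

theorem cls_one : cls 1 = 0 := by decide +kernel

theorem z_central : ∀ x : Mdl, x * z = z * x := by decide +kernel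

theorem central_involution' : ∀ x : Mdl,
    x = z ∨ x * x ≠ 1 ∨ x = 1 ∨ x * (1, g5) ≠ (1, g5) * x ∨ x * (1, g3) ≠ (1, g3) * x := by
  decide +kernel

theorem central_involution {x : Mdl} (h : ∀ y : Mdl, x * y = y * x) (h2 : x * x = 1) (h1 : x ≠ 1) :
    x = z := by
  rcases central_involution' x with e | e | e | e | e
  exacts [e, absurd h2 e, absurd e h1, absurd (h _) e, absurd (h _) e]

theorem pow_spec : ∀ x : Mdl, Spec (cls x) → x ^ 15 = z := by decide +kernel

theorem pow_three : ∀ x : Mdl, cls x = 2 → x ^ 15 = 1 := by decide +kernel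

theorem spec_inv : ∀ x : Mdl, Spec (cls x) → Spec (cls x⁻¹) := by decide +kernel

theorem invol_iff : ∀ x : Mdl, (x ≠ 1 ∧ x * x = 1) ↔ (cls x = 1 ∨ cls x = 5 ∨ cls x = 6) := by
  decide +kernel

theorem conj_two : ∀ x : Mdl, cls x = 2 → ∃ y : Mdl, y * (1, g3) * y⁻¹ = x := by decide +kernel

theorem conj_seven : ∀ x : Mdl, cls x = 7 → ∃ y : Mdl, y * (z * (1, g3)) * y⁻¹ = x := by
  decide +kernel

theorem cls_rep : cls (z * (1, g3)) = 7 ∧ cls ((1 : Multiplicative (ZMod 2)), g3) = 2 := by
  decide +kernel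

/-- The number of pairs of involutions with a given special product. -/
def cnt : Fin 10 → ℕ := ![0, 0, 0, 0, 0, 30, 0, 6, 10, 10]

theorem pairs_eq : ∀ v : Mdl, Spec (cls v) →
    (Finset.univ.filter fun x : Mdl => x ≠ 1 ∧ x * x = 1 ∧ x * v ≠ 1 ∧ x * v * (x * v) = 1).card =
      cnt (cls v) := by decide +kernel

/-- A subgroup given by a decidable predicate closed under products. -/
def subgroupOfPred {H : Type*} [Group H] (P : H → Bool) (h1 : P 1 = true)
    (hm : ∀ x y, P x = true → P y = true → P (x * y) = true)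
    (hi : ∀ x, P x = true → P x⁻¹ = true) : Subgroup H where
  carrier := {x | P x = true}
  mul_mem' := fun {x y} => hm x y
  one_mem' := h1
  inv_mem' := fun {x} => hi x

/-- The exponent in the cyclic group generated by the five-cycle. -/
def lg (x : Alt) : Fin 5 :=
  if x = g5 then 1 else if x = g5 ^ 2 then 2 else if x = g5 ^ 3 then 3 else if x = g5 ^ 4 then 4 else 0

/-- Membership in that cyclic group. -/
def cycPred (x : Alt) : Bool := decide (x = g5 ^ (lg x : ℕ))

/-- The cyclic subgroup of order five. -/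
def cyc : Subgroup Alt :=
  subgroupOfPred cycPred (by decide +kernel) (by decide +kernel) (by decide +kernel)

instance : DecidablePred (· ∈ cyc) := fun x => inferInstanceAs (Decidable (cycPred x = true))

theorem lg_mul : ∀ x y : Alt, cycPred x = true → cycPred y = true →
    ((lg (x * y) : ℕ) = ((lg x : ℕ) + (lg y : ℕ)) % 5) := by decide +kernel

theorem lg_one : lg 1 = 0 := by decide +kernel

theorem card_cyc : (Finset.univ.filter fun x : Alt => x ∈ cyc).card = 5 := by decide +kernel

/-- The linear character of the cyclic subgroup with value `o` at the generator. -/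
noncomputable def psi (o : ℂ) (ho : o ^ 5 = 1) : cyc →* ℂˣ :=
  MonoidHom.toHomUnits
    { toFun := fun x => o ^ (lg (x : Alt) : ℕ)
      map_one' := by rw [Subgroup.coe_one, lg_one]; rfl
      map_mul' := fun x y => by
        rw [Subgroup.coe_mul, lg_mul _ _ x.2 y.2, ← pow_eq_pow_mod _ ho, pow_add] }

/-- How often a conjugate of `g` is `g5 ^ k`. -/
def hits (g : Alt) (k : Fin 5) : ℕ :=
  (Finset.univ.filter fun x : Alt => x⁻¹ * g * x = g5 ^ (k : ℕ)).card

/-- The values of `hits`. -/
def hitTab : Fin 5 → Fin 5 → ℕ :=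
  ![![60, 0, 0, 0, 0], ![0, 0, 0, 0, 0], ![0, 0, 0, 0, 0], ![0, 5, 0, 0, 5], ![0, 0, 5, 5, 0]]

theorem hits_eq : ∀ g : Alt, ∀ k : Fin 5, hits g k = hitTab (base g) k := by decide +kernel

theorem mem_cyc_iff : ∀ y : Alt, cycPred y = true ↔ ∃ k : Fin 5, y = g5 ^ (k : ℕ) := by
  decide +kernel

theorem lg_pow : ∀ k : Fin 5, lg (g5 ^ (k : ℕ)) = k := by decide +kernel

/-- The values of the induced linear character. -/
noncomputable def cycVal (o : ℂ) : Fin 5 → ℂ := ![12, 0, 0, o + o ^ 4, o ^ 2 + o ^ 3]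

theorem indFun_psi_apply (o : ℂ) (ho : o ^ 5 = 1) (g : Alt) :
    Cfsg.indFun cyc (fun h => (psi o ho h : ℂ)) g = cycVal o (base g) := by
  have hc : Nat.card cyc = 5 := by
    rw [Nat.card_eq_fintype_card, Fintype.card_subtype, card_cyc]
  rw [indFun_def, hc]
  have h1 : ∀ x : Alt, Cfsg.extendByZero cyc (fun h => (psi o ho h : ℂ)) (x⁻¹ * g * x) =
      ∑ k : Fin 5, if x⁻¹ * g * x = g5 ^ (k : ℕ) then o ^ (k : ℕ) else 0 := by
    intro x
    rw [extendByZero_eq]
    split_ifs with h
    · obtain ⟨k, hk⟩ := (mem_cyc_iff _).1 h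
      rw [Finset.sum_eq_single k, if_pos hk]
      · show o ^ (lg (x⁻¹ * g * x) : ℕ) = _
        rw [hk, lg_pow]
      · intro j _ hj
        refine if_neg fun e => hj ?_
        have := (congrArg lg (e.symm.trans hk))
        rwa [lg_pow, lg_pow] at this
      · exact fun h => absurd (Finset.mem_univ _) h
    · refine (Finset.sum_eq_zero fun j _ => if_neg fun e => h ?_).symm
      exact (mem_cyc_iff _).2 ⟨j, e⟩
  simp only [h1]
  rw [Finset.sum_comm]
  have h2 : ∀ k : Fin 5, (∑ x : Alt, if x⁻¹ * g * x = g5 ^ (k : ℕ) then o ^ (k : ℕ) else 0) =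
      (hitTab (base g) k : ℂ) * o ^ (k : ℕ) := fun k => by
    rw [← Finset.sum_filter, Finset.sum_const, nsmul_eq_mul, ← hits_eq, hits]
  simp only [h2, Fin.sum_univ_five]
  generalize base g = b
  fin_cases b <;> simp [cycVal, hitTab] <;> ring

/-- The stabilizer of the point `0`. -/
def stab : Subgroup Alt :=
  subgroupOfPred (fun x => decide (x.1 0 = 0)) (by decide +kernel) (by decide +kernel)
    (by decide +kernel)

instance : DecidablePred (· ∈ stab) := fun x =>
  inferInstanceAs (Decidable (decide (x.1 0 = 0) = true))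

/-- The permutation character of degree five. -/
def pFive : Fin 5 → ℕ := ![5, 1, 2, 0, 0]

theorem pFive_count : ∀ g : Alt,
    (Finset.univ.filter fun x : Alt => x⁻¹ * g * x ∈ stab).card = 12 * pFive (base g) := by
  decide +kernel

theorem card_stab : (Finset.univ.filter fun x : Alt => x ∈ stab).card = 12 := by decide +kernel

theorem indFun_stab_apply (g : Alt) :
    Cfsg.indFun stab (fun _ => (1 : ℂ)) g = (pFive (base g) : ℂ) := by
  have hc : Nat.card stab = 12 := by
    rw [Nat.card_eq_fintype_card, Fintype.card_subtype, card_stab]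
  rw [indFun_def, hc]
  have h : ∑ x : Alt, Cfsg.extendByZero stab (fun _ => (1 : ℂ)) (x⁻¹ * g * x) =
      ((Finset.univ.filter fun x : Alt => x⁻¹ * g * x ∈ stab).card : ℂ) := by
    rw [← Finset.sum_boole]
    exact Finset.sum_congr rfl fun x _ => by rw [extendByZero_eq]; split_ifs <;> rfl
  rw [h, pFive_count]
  push_cast
  ring

/-- The sign of the first coordinate. -/
def sgnT (v : Mdl) : ℤ := if v.1 = 1 then 1 else -1

theorem sgnT_mul : ∀ x y : Mdl, sgnT (x * y) = sgnT x * sgnT y := by decide +kernel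

/-- The sign as a homomorphism. -/
noncomputable def sgnHom : Mdl →* ℂˣ :=
  MonoidHom.toHomUnits
    { toFun := fun x => (sgnT x : ℂ)
      map_one' := by rw [show sgnT 1 = 1 by decide +kernel]; norm_num
      map_mul' := fun x y => by rw [sgnT_mul, Int.cast_mul] }

/-- Generalized characters of `A₅` inflated and multiplied by `1 - sign`. -/
theorem isGen_lift {f : Alt → ℂ} (hf : Cfsg.IsGeneralizedCharacter Alt f) :
    Cfsg.IsGeneralizedCharacter Mdl (fun v => (1 - (sgnT v : ℂ)) * f v.2) := by
  have h := IsGeneralized.mul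
    (IsGeneralized.sub (isGeneralized_one (G := Mdl))
      (IsCharacter.isGeneralized (isCharacter_ofHom sgnHom)))
    (IsGeneralized.comp hf (MonoidHom.snd (Multiplicative (ZMod 2)) (alternatingGroup (Fin 5))))
  exact h

/-- A primitive fifth root of unity. -/
noncomputable def zeta : ℂ := Complex.exp (2 * Real.pi * Complex.I / 5)

theorem isPrimitive_zeta : IsPrimitiveRoot zeta 5 := by
  have := Complex.isPrimitiveRoot_exp 5 (by norm_num)
  rw [zeta]
  simpa using this

theorem zeta_pow : zeta ^ 5 = 1 := isPrimitive_zeta.pow_eq_one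

theorem zeta_sq_pow : (zeta ^ 2) ^ 5 = 1 := by
  rw [← pow_mul, pow_mul', zeta_pow, one_pow]

/-- The sum `ζ + ζ⁻¹`. -/
noncomputable def w : ℂ := zeta + zeta ^ 4

theorem zeta_sum : zeta ^ 2 + zeta ^ 3 = -1 - w := by
  have h := isPrimitive_zeta.geom_sum_eq_zero (by norm_num)
  simp only [Finset.sum_range_succ, Finset.sum_range_zero] at h
  rw [w]
  linear_combination h

theorem w_sq : w * w = 1 - w := by
  have h := zeta_sum
  rw [w] at h ⊢
  linear_combination h + (zeta ^ 3 + 2) * zeta_pow

theorem conj_w : conj w = w := by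
  have hc : conj zeta = zeta ^ 4 := by
    have h1 : conj zeta * zeta = 1 := by
      rw [← Complex.normSq_eq_conj_mul_self, Complex.normSq_eq_norm_sq,
        Complex.norm_eq_one_of_pow_eq_one zeta_pow (by norm_num)]
      norm_num
    calc conj zeta = conj zeta * zeta ^ 5 := by rw [zeta_pow, mul_one]
      _ = (conj zeta * zeta) * zeta ^ 4 := by ring
      _ = zeta ^ 4 := by rw [h1, one_mul]
  rw [w, map_add, map_pow, hc, ← pow_mul, show zeta ^ (4 * 4) = zeta * (zeta ^ 5) ^ 3 by ring,
    zeta_pow]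
  ring

/-- The rational part of the four tables. -/
def tRe : Fin 4 → Fin 10 → ℤ :=
  ![![0, 0, 0, 0, 0, 24, 0, 0, 4, 4], ![0, 0, 0, 0, 0, 16, 0, -2, 2, 0],
    ![0, 0, 0, 0, 0, 16, 0, -2, 0, 2], ![0, 0, 0, 0, 0, 8, 0, 2, -2, -2]]

/-- The coefficient of `w`. -/
def tIm : Fin 4 → Fin 10 → ℤ :=
  ![![0, 0, 0, 0, 0, 0, 0, 0, 0, 0], ![0, 0, 0, 0, 0, 0, 0, 0, 2, -2],
    ![0, 0, 0, 0, 0, 0, 0, 0, -2, 2], ![0, 0, 0, 0, 0, 0, 0, 0, 0, 0]]

/-- The four tables. -/
noncomputable def tab (k : Fin 4) (i : Fin 10) : ℂ := (tRe k i : ℂ) + (tIm k i : ℂ) * w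

theorem tab_supported : ∀ k : Fin 4, ∀ i : Fin 10, ¬ Spec i → tRe k i = 0 ∧ tIm k i = 0 := by
  decide +kernel

theorem tab_zero (k : Fin 4) (i : Fin 10) (h : ¬ Spec i) : tab k i = 0 := by
  obtain ⟨a, b⟩ := tab_supported k i h
  simp [tab, a, b]

/-- The part in `A₅` of the four functions. -/
noncomputable def altPart : Fin 4 → Alt → ℂ :=
  ![fun g => cycVal 1 (base g),
    fun g => cycVal zeta (base g) - ((pFive (base g) : ℂ) - 1),
    fun g => cycVal (zeta ^ 2) (base g) - ((pFive (base g) : ℂ) - 1),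
    fun g => (pFive (base g) : ℂ) - 1]

theorem isGen_altPart (k : Fin 4) : Cfsg.IsGeneralizedCharacter Alt (altPart k) := by
  have hc : ∀ (o : ℂ) (ho : o ^ 5 = 1),
      Cfsg.IsGeneralizedCharacter Alt (fun g => cycVal o (base g)) := by
    intro o ho
    have h := IsGeneralized.indFun (IsCharacter.isGeneralized (isCharacter_ofHom (psi o ho)))
    convert h using 1
    funext g
    rw [indFun_psi_apply]
  have hp : Cfsg.IsGeneralizedCharacter Alt (fun g => (pFive (base g) : ℂ) - 1) := by
    have h := IsGeneralized.sub (IsGeneralized.indFun (isGeneralized_one (G := stab)))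
      (isGeneralized_one (G := Alt))
    convert h using 1
    funext g
    rw [Pi.sub_apply, indFun_stab_apply]
  fin_cases k
  · exact hc 1 (one_pow _)
  · exact IsGeneralized.sub (hc _ zeta_pow) hp
  · exact IsGeneralized.sub (hc _ zeta_sq_pow) hp
  · exact hp

theorem lift_eq (k : Fin 4) (v : Mdl) :
    (1 - (sgnT v : ℂ)) * altPart k v.2 = tab k (cls v) := by
  obtain ⟨a, u⟩ := v
  simp only [sgnT, cls]
  split_ifs with h
  · rw [Int.cast_one, sub_self, zero_mul, tab_zero]
    generalize base u = b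
    revert b
    decide
  · rw [show (1 : ℂ) - ((-1 : ℤ) : ℂ) = 2 by norm_num]
    generalize hb : base u = b
    have h4 : (zeta ^ 2) ^ 4 = zeta ^ 3 := by
      rw [← pow_mul, show zeta ^ (2 * 4) = zeta ^ 5 * zeta ^ 3 by ring, zeta_pow, one_mul]
    have h6 : (zeta ^ 2) ^ 2 + (zeta ^ 2) ^ 3 = w := by
      rw [w, ← pow_mul, ← pow_mul, show zeta ^ (2 * 3) = zeta ^ 5 * zeta by ring, zeta_pow]
      ring
    have h5 := zeta_sum
    have hw : zeta + zeta ^ 4 = w := rfl
    fin_cases k <;> fin_cases b <;>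
      simp [altPart, hb, tab, tRe, tIm, cycVal, pFive, Fin.natAdd, h4, h5, h6, hw] <;> ring

theorem isGen_tab (k : Fin 4) : Cfsg.IsGeneralizedCharacter Mdl (fun v => tab k (cls v)) := by
  have h := isGen_lift (isGen_altPart k)
  convert h using 1
  funext v
  exact (lift_eq k v).symm

end CfsgLib.J1Order
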